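import Cfsg.Agent.Lib.J4M.Big
import Cfsg.Agent.Lib.ONan.Main
import Cfsg.Agent.S1136
import Cfsg.Agent.Lib.Suzuki.LieModel
import Cfsg.Agent.Lib.Unitary.Order

/-! General lemmas: orders of joins, Sylow conditions, normal subgroups, and groups of rank one. -/

set_option autoImplicit false

namespace H74.J4N
open Subgroup H68 H2 H66.J4 H75.J4 H74.J4M Cfsg

variable {G : Type*} [Group G] [Finite G]

theorem card_sup_of {P A : Subgroup G} (hn : A ≤ normalizer (P : Set G)) (d : A ⊓ P = ⊥) :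
    Nat.card ↥(P ⊔ A) = Nat.card P * Nat.card A := by
  have := H1.card_sup_mul_card_inf_of_le_normalizer hn
  rwa [d, card_bot, mul_one, sup_comm, mul_comm] at this

theorem card_sup_cop {P A : Subgroup G} {a b : ℕ} (hn : A ≤ normalizer (P : Set G)) (ca : Nat.card P = a)
    (cb : Nat.card A = b) (c : b.Coprime a) : Nat.card ↥(P ⊔ A) = a * b := by
  rw [card_sup_of hn (disjoint_iff.1 (disjoint_of_coprime_natCard (ca ▸ cb ▸ c))), ca, cb]

theorem card_zp {h : G} {n : ℕ} (o : orderOf h = n) : Nat.card (zpowers h) = n := by rw [Nat.card_zpowers, o]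

theorem zp_inf_bot {h : G} {p : ℕ} (hp : p.Prime) (o : orderOf h = p) {P : Subgroup G} (hP : h ∉ P) :
    zpowers h ⊓ P = ⊥ := by
  rcases (Nat.dvd_prime hp).1 (card_zp o ▸ card_dvd_of_le (inf_le_left : zpowers h ⊓ P ≤ _)) with e | e
  · exact card_eq_one.1 e
  · exact absurd ((eq_of_le_of_card_ge inf_le_left (by rw [e, card_zp o])).ge (mem_zpowers h)).2 hP

theorem zp_inf_bot' {h : G} {P : Subgroup G} (hP : ∀ i, i < orderOf h → h ^ i ∈ P → i = 0) : zpowers h ⊓ P = ⊥ :=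
  eq_bot_iff.2 fun w hw => by
    obtain ⟨i, hi, rfl⟩ := exists_pow_of_mem hw.1
    rw [hP i hi hw.2, pow_zero]; exact one_mem _

theorem card_sup_prime {P : Subgroup G} {h : G} {p a : ℕ} (hp : p.Prime) (o : orderOf h = p)
    (hn : h ∈ normalizer (P : Set G)) (ca : Nat.card P = a) (hP : h ∉ P) : Nat.card ↥(P ⊔ zpowers h) = a * p := by
  rw [card_sup_of (zpowers_le.2 hn) (zp_inf_bot hp o hP), ca, card_zp o]

theorem not_mem_zp {g h : G} (n : h ∉ centralizer {g}) : h ∉ zpowers g := fun a =>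
  n (zp_le_cent (mem_zpowers g) a)

theorem cent_two {g s : G} (hn : s ∈ normalizer (zpowers g : Set G)) (d : zpowers s ⊓ centralizer {g} = ⊥) :
    centralizer {g} ⊓ (zpowers g ⊔ zpowers s) = zpowers g := by
  rw [inf_sup_of_le_normalizer' (zpowers_le.2 hn) (zp_le_cent (mem_zpowers g)), inf_comm, d, sup_bot_eq]

theorem pin {p k c : ℕ} [hp : Fact p.Prime] {P M : Subgroup G} (hP : P ≤ M) (cP : Nat.card P = p ^ k)
    (c1 : Nat.card ↥(M ⊓ normalizer (P : Set G)) = c) (h : ¬ p ^ (k + 1) ∣ c) :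
    ¬ p ^ (k + 1) ∣ Nat.card M ∧ c ∣ Nat.card M ∧ Nat.card M / c % p = 1 := by
  have s := sylowIn_of_sylowIn_normalizer (sylowIn_of_card (le_inf hP le_normalizer) cP (c1 ▸ h))
  obtain ⟨r, hr, e⟩ := sylowIn_index s
  exact ⟨not_dvd_of_sylowIn s cP, div_of hp.out.one_lt Nat.card_pos hr (c1 ▸ e)⟩

theorem norm_le {y s : G} {p e : ℕ} (oy : orderOf y = p) (os : orderOf s = e) (c : e.Coprime p)
    (hs : s ∈ normalizer (zpowers y : Set G)) (cN : Nat.card (normalizer (zpowers y : Set G)) = p * e)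
    {M : Subgroup G} (hy : y ∈ M) (hM : s ∈ M) : normalizer (zpowers y : Set G) ≤ M :=
  (eq_of_le_of_card_ge (sup_le le_normalizer (zpowers_le.2 hs))
    (by rw [cN, card_sup_cop (zpowers_le.2 hs) (card_zp oy) (card_zp os) c])).ge.trans
    (sup_le (zpowers_le.2 hy) (zpowers_le.2 hM))

theorem le_of_noncomm {p : ℕ} [hp : Fact p.Prime] {U M : Subgroup G} (c : Nat.card U = p ^ 3) {a b : G}
    (ha : a ∈ M ⊓ U) (hb : b ∈ M ⊓ U) (n : a * b ≠ b * a) : U ≤ M := by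
  obtain ⟨i, hi, e⟩ := (Nat.dvd_prime_pow hp.out).1 (c ▸ card_dvd_of_le (inf_le_right : M ⊓ U ≤ U))
  have k : IsMulCommutative ↥(M ⊓ U) → False := fun h =>
    n (congrArg Subtype.val (h.is_comm.comm (⟨a, ha⟩ : ↥(M ⊓ U)) ⟨b, hb⟩))
  interval_cases i
  · rw [pow_zero, card_eq_one] at e
    rw [e] at k; exact (k inferInstance).elim
  · have := isCyclic_of_prime_card (e.trans (pow_one p))
    exact (k inferInstance).elim
  · exact (k (IsPGroup.isMulCommutative_of_card_eq_prime_sq e)).elim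
  · exact (eq_of_le_of_card_ge inf_le_right (by rw [c, e])).ge.trans inf_le_left

theorem mem_of_dvd {p : ℕ} [hp : Fact p.Prime] {X N : Subgroup G} (hN : N ≤ X) (hn : X ≤ normalizer (N : Set G))
    (h2 : ¬ p ^ 2 ∣ Nat.card X) (d : p ∣ Nat.card N) {w : G} (hw : w ∈ X) (o : orderOf w = p) : w ∈ N := by
  obtain ⟨y, hy, oy⟩ := exists_order hp.out d
  obtain ⟨k, hk, i, -, e⟩ := exists_conj_prime h2 hw (hN hy) o oy
  exact (mem_normalizer_iff.1 (hn hk) w).2 (e ▸ pow_mem hy i)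

theorem bs_one (hc : Nat.card G = 86775571046077562880) {p : ℕ} [hp : Fact p.Prime] {N : Subgroup G} {w : G}
    (o : orderOf w = p) (hw : w ∈ normalizer (N : Set G)) (hC : N ⊓ centralizer {w} ≤ zpowers w)
    (nd : ¬ p ∣ Nat.card N) : BS (Nat.card N) p 1 := fun t ht _ => by
  have h := (by decide +kernel : ∀ t ∈ LJ, t.1.Prime ∧ ¬ t.1 ^ (t.2 + 1) ∣ 86775571046077562880) t ht
  have := Fact.mk h.1
  have e := part_modEq (q := t.1) (E := t.2) o hw nd fun d => h.2 (hc ▸ d.trans (card_subgroup_dvd_card N))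
  rwa [Nat.eq_one_of_dvd_coprimes ((Nat.Prime.coprime_iff_not_dvd hp.out).2 nd) (card_zp o ▸ card_dvd_of_le hC)
    (card_dvd_of_le inf_le_left)] at e

theorem frat {p : ℕ} [Fact p.Prime] {X N : Subgroup G} (hN : N ≤ X) (hn : X ≤ normalizer (N : Set G))
    (h2 : ¬ p ^ 2 ∣ Nat.card X) {w : G} (o : orderOf w = p) (hw : w ∈ N) :
    Nat.card X * p ∣ Nat.card ↥(X ⊓ normalizer (zpowers w : Set G)) * Nat.card N := by
  have s := (sylowIn_of_card (k := 1) (zpowers_le.2 hw) ((card_zp o).trans (pow_one p).symm)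
    fun d => h2 (d.trans (card_dvd_of_le hN))).frattini_sup hN hn
  rw [← H1.card_sup_mul_card_inf_of_le_normalizer (inf_le_left.trans hn), sup_comm, s, ← card_zp o]
  exact Nat.mul_dvd_mul_left _ (card_dvd_of_le (le_inf (le_inf (zpowers_le.2 (hN hw)) le_normalizer) (zpowers_le.2 hw)))

omit [Finite G] in
theorem norm_map {X : Subgroup G} (N : Subgroup X) [h : N.Normal] :
    X ≤ normalizer ((N.map X.subtype : Subgroup G) : Set G) := le_normalizer_of_forall_cj_le fun g hg => cj_le_iff'.2 (by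
  rintro _ ⟨k, hk, rfl⟩
  exact ⟨⟨g, hg⟩ * k * ⟨g, hg⟩⁻¹, h.conj_mem k hk _, rfl⟩)

omit [Finite G] in
theorem simple_of {X : Subgroup G} (h0 : X ≠ ⊥)
    (h : ∀ N, N ≤ X → X ≤ normalizer (N : Set G) → N = ⊥ ∨ N = X) : IsSimpleGroup X :=
  haveI := (nontrivial_iff_ne_bot X).2 h0
  ⟨fun N _ => (h _ (map_subtype_le N) (norm_map N)).imp
    (fun e => (map_eq_bot_iff_of_injective _ X.subtype_injective).1 e)
    fun e => map_injective X.subtype_injective (by rw [e, ← MonoidHom.range_eq_map, range_subtype])⟩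

theorem norm_tot (x : G) : Nat.card (normalizer (zpowers x : Set G)) ≤
    Nat.card (centralizer ({x} : Set G)) * (orderOf x).totient := by
  rw [← H1.card_mul_relIndex_of_le (cent_le_norm x)]
  refine Nat.mul_le_mul_left _ (Nat.le_of_dvd (Nat.totient_pos.2 (orderOf_pos x)) ?_)
  have := (zpowers x).normalizerMonoidHom.range.card_subgroup_dvd_card
  rwa [IsCyclic.card_mulAut, Nat.card_zpowers, ← index_ker, normalizerMonoidHom_ker, cent_zp] at this

theorem bruhat {K B Q : Subgroup G} {t : G} (hB : B ≤ K) (hQ : Q ≤ B) (hK : t ∈ K) (ht : t ∉ B)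
    (fr : ∀ q ∈ Q, t⁻¹ * q * t ∈ B → q = 1) (c : Nat.card K = (Nat.card Q + 1) * Nat.card B) {g : G} (h1 : g ∈ K)
    (h2 : g ∉ B) : ∃ q ∈ Q, ∃ b ∈ B, g = q * t * b := by
  let f : Option Q × B → K := fun a => ⟨a.1.elim 1 (fun q => q * t) * a.2, K.mul_mem (by
    rcases a with ⟨_ | q, b⟩
    exacts [K.one_mem, K.mul_mem (hB (hQ q.2)) hK]) (hB a.2.2)⟩
  have k : ∀ (q : Q) (b b' : B), (q : G) * t * b ≠ 1 * b' := fun q b b' e => ht (by
    rw [show t = (q : G)⁻¹ * (1 * b') * (b : G)⁻¹ by rw [← e]; group]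
    exact B.mul_mem (B.mul_mem (B.inv_mem (hQ q.2)) (B.mul_mem B.one_mem b'.2)) (B.inv_mem b.2))
  have fi : Function.Injective f := by
    rintro ⟨_ | q, b⟩ ⟨_ | q', b'⟩ e <;> have e' := congrArg Subtype.val e
    · exact Prod.ext rfl (Subtype.ext (mul_left_cancel e'))
    · exact absurd e'.symm (k _ _ _)
    · exact absurd e' (k _ _ _)
    · have e1 : (q : G) * t * b = q' * t * b' := e'
      have e2 := fr _ (Q.mul_mem (Q.inv_mem q'.2) q.2) (by
        rw [show t⁻¹ * ((q' : G)⁻¹ * q) * t = b' * (b : G)⁻¹ by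
          rw [eq_mul_inv_iff_mul_eq, ← mul_right_inj ((q' : G) * t), ← e1]; group]
        exact B.mul_mem b'.2 (B.inv_mem b.2))
      obtain rfl : q' = q := Subtype.ext (inv_mul_eq_one.1 e2)
      exact Prod.ext rfl (Subtype.ext (mul_left_cancel e1))
  obtain ⟨⟨_ | q, b⟩, e⟩ := ((Nat.bijective_iff_injective_and_card f).2
    ⟨fi, by rw [Nat.card_prod, Finite.card_option, c]⟩).2 ⟨g, h1⟩
  · exact absurd ((show 1 * (b : G) = g from congrArg Subtype.val e) ▸ B.mul_mem B.one_mem b.2) h2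
  · exact ⟨q, q.2, b, b.2, (congrArg Subtype.val e).symm⟩

omit [Finite G] in
theorem card_sub {A K : Subgroup G} (h : A ≤ K) : Nat.card (A.subgroupOf K) = Nat.card A :=
  Nat.card_congr (subgroupOfEquivOfLe h).toEquiv

/-- O'Nan's theorem inside a group -/
theorem onan {K U : Subgroup G} [IsSimpleGroup K] {h s : G} {p d e : ℕ} (hp : p.Prime) (p2 : p ≠ 2) (hU : U ≤ K)
    (hh : h ∈ K) (hs : s ∈ K) (hn : h ∈ normalizer (U : Set G)) (s2 : s * s = 1)
    (sh : s ∈ normalizer (zpowers h : Set G)) (fr : ∀ u ∈ U, s⁻¹ * u * s ∈ U → u = 1) (cU : Nat.card U = p ^ 3)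
    (oh : orderOf h = e) (hd : Odd d) (he : d * e + 1 = p ^ 2) (cK : Nat.card K = (p ^ 3 + 1) * (p ^ 3 * e)) :
    ∃ (F : Type) (_ : Field F) (_ : Fintype F), Fintype.card F = p ^ 2 ∧ Nonempty (K ≃* PSU 3 F p) := by
  have := Fact.mk hp
  have cop : e.Coprime (p ^ 3) := Nat.Coprime.pow_right 3 ((Nat.Prime.coprime_iff_not_dvd hp).2 fun a =>
    hp.one_lt.ne' (Nat.dvd_one.1 ((Nat.dvd_add_right (a.mul_left d)).1 (he ▸ dvd_pow_self p two_ne_zero)))).symm
  have cB := card_sup_cop (zpowers_le.2 hn) cU (card_zp oh) cop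
  have nB : U ⊔ zpowers h ≤ normalizer (U : Set G) := sup_le le_normalizer (zpowers_le.2 hn)
  have BK : U ⊔ zpowers h ≤ K := sup_le hU (zpowers_le.2 hh)
  have fr' : ∀ u ∈ U, s⁻¹ * u * s ∈ U ⊔ zpowers h → u = 1 := fun u hu a => fr u hu
    (mem_of_card le_sup_left nB (by rw [cB, cU, mul_comm]) a (Nat.Coprime.coprime_dvd_left (by
      rw [show s⁻¹ * u * s = s⁻¹ * u * s⁻¹⁻¹ by rw [inv_inv], H9.orderOf_conj, ← cU]
      exact orderOf_dvd_card_of_mem hu) cop.symm))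
  have sB : s ∉ U ⊔ zpowers h := fun a => by
    have : U = ⊥ := eq_bot_iff.2 fun u hu => fr' u hu (mul_mem (mul_mem (inv_mem a) (mem_sup_left hu)) a)
    rw [this, card_bot] at cU
    exact (Nat.one_lt_pow (by norm_num) hp.one_lt).ne cU
  let _ : Fintype (GaloisField p 2) := Fintype.ofFinite _
  have hE : Fintype.card (GaloisField p 2) = p ^ 2 := by
    rw [← Nat.card_eq_fintype_card, GaloisField.card p _ (by omega)]
  have := H52.ON.psu_of_cosets (U := U.subgroupOf K) (B := (U ⊔ zpowers h).subgroupOf K)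
    (H := (zpowers h).subgroupOf K) (s := ⟨s, hs⟩) (n := 1) (d := d) hp p2 one_pos (fun _ a => mem_sup_left a)
    (fun x a u b => conj_mem_of_mem_normalizer (G := G) (nB a) b) (fun _ a => mem_sup_right a) sB
    (show s * s ∈ U ⊔ zpowers h from s2 ▸ one_mem _)
    (fun x a => mem_sup_right (conj_mem_of_mem_normalizer' sh a))
    (fun x a => by
      obtain ⟨u, hu, b, hb, e⟩ := (mem_sup_of_le_normalizer' (zpowers_le.2 hn)).1 a
      exact ⟨⟨u, hU hu⟩, hu, ⟨b, zpowers_le.2 hh hb⟩, hb, Subtype.ext e⟩)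
    (fun g a => by
      obtain ⟨u, hu, b, hb, e⟩ := bruhat BK le_sup_left hs sB fr' (by rw [cK, cU, cB]) g.2 a
      exact ⟨⟨u, hU hu⟩, mem_sup_left hu, ⟨b, BK hb⟩, hb, Subtype.ext e⟩)
    (by
      have := H1.card_mul_relIndex_of_le BK
      rw [cK, mul_comm (p ^ 3 + 1), ← cB] at this
      exact Nat.eq_of_mul_eq_mul_left Nat.card_pos this)
    ((card_sub hU).trans cU) (isCyclic_of_surjective (subgroupOfEquivOfLe (zpowers_le.2 hh)).symm
      (subgroupOfEquivOfLe (zpowers_le.2 hh)).symm.surjective) hd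
    (by rw [card_sub (zpowers_le.2 hh), card_zp oh, he]) (GaloisField p 2) (by rw [pow_one, hE])
  rw [pow_one] at this
  exact ⟨_, _, _, hE, this⟩

/-- Suzuki's theorem inside a group -/
theorem rank_one {M Q D : Subgroup G} {t : G} (hQ : Q ≤ M) (hD : D ≤ M) (ht : t ∈ M) (hn : D ≤ normalizer (Q : Set G))
    (t2 : t * t = 1) (tD : t ∈ normalizer (D : Set G)) (fr : ∀ q ∈ Q, t⁻¹ * q * t ∈ Q ⊔ D → q = 1)
    (c : Nat.card M = (Nat.card Q + 1) * Nat.card ↥(Q ⊔ D)) (eQ : Even (Nat.card Q)) (oD : Odd (Nat.card D))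
    (fa : ∀ N, N ≤ Q ⊔ D → M ≤ normalizer (N : Set G) → N = ⊥) {a b : G} (ha : a ∈ M) (hb : b ∈ M) (a1 : a ≠ 1)
    (b1 : b ≠ 1) (ab : a ≠ b) (a2 : a * a = 1) (b2 : b * b = 1) (cm : a * b = b * a) (h64 : ¬ 64 ∣ Nat.card M) :
    ∃ L : Subgroup M, L.Normal ∧ Odd L.index ∧ ∃ (F : Type) (_ : Field F) (_ : Fintype F),
      (∃ n : ℕ, Fintype.card F = 2 ^ n) ∧ Nonempty (L ≃* Matrix.ProjectiveSpecialLinearGroup (Fin 2) F) := by
  have BM : Q ⊔ D ≤ M := sup_le hQ hD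
  have nB : Q ⊔ D ≤ normalizer (Q : Set G) := sup_le le_normalizer hn
  have tB : t ∉ Q ⊔ D := fun a => by
    have : Q = ⊥ := eq_bot_iff.2 fun u hu => fr u hu (mul_mem (mul_mem (inv_mem a) (mem_sup_left hu)) a)
    rw [this, card_bot] at eQ
    exact absurd eQ (by decide)
  set B := (Q ⊔ D).subgroupOf M with hB
  have sm : ∀ g x : M, g • (x : M ⧸ B) = ((g * x : M) : M ⧸ B) := fun _ _ => rfl
  have s1 : MulAction.stabilizer M ((1 : M) : M ⧸ B) = B := MulAction.stabilizer_quotient B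
  have s2 : ∀ g : M, g ∈ MulAction.stabilizer M ((⟨t, ht⟩ : M) • ((1 : M) : M ⧸ B)) ↔ t⁻¹ * g * t ∈ Q ⊔ D := fun g => by
    rw [MulAction.mem_stabilizer_iff, sm, sm, mul_one, eq_comm, QuotientGroup.eq, ← mul_assoc]; rfl
  have s3 : B ⊓ MulAction.stabilizer M ((⟨t, ht⟩ : M) • ((1 : M) : M ⧸ B)) = D.subgroupOf M := by
    refine Subgroup.ext fun g => ⟨fun h => ?_, fun h => ⟨mem_sup_right h,
      (s2 g).2 (mem_sup_right (conj_mem_of_mem_normalizer' tD h))⟩⟩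
    obtain ⟨q, hq, d, hd, e⟩ := (mem_sup_of_le_normalizer' (x := (g : G)) hn).1 h.1
    have := fr q hq (by
      rw [show t⁻¹ * q * t = t⁻¹ * g * t * (t⁻¹ * d * t)⁻¹ by rw [e]; group]
      exact mul_mem ((s2 g).1 h.2) (inv_mem (mem_sup_right (conj_mem_of_mem_normalizer' tD hd))))
    rw [this, one_mul] at e
    exact show (g : G) ∈ D from e ▸ hd
  have key : ∀ x y : M ⧸ B, x ≠ y → ∃ g : M, g • ((1 : M) : M ⧸ B) = x ∧ g • ((⟨t, ht⟩ : M) : M ⧸ B) = y := by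
    intro x y n
    obtain ⟨x, rfl⟩ := QuotientGroup.mk_surjective x
    obtain ⟨y, rfl⟩ := QuotientGroup.mk_surjective y
    obtain ⟨q, hq, d, hd, e⟩ := bruhat BM le_sup_left ht tB fr c (x⁻¹ * y).2 fun h => n (QuotientGroup.eq.2 h)
    refine ⟨x * ⟨q, hQ hq⟩, ?_, ?_⟩
    · rw [sm, mul_one]; exact QuotientGroup.mk_mul_of_mem x (mem_sup_left hq)
    · rw [sm, QuotientGroup.eq]
      show ((x : G) * q * t)⁻¹ * y ∈ Q ⊔ D
      rwa [show ((x : G) * q * t)⁻¹ * y = (q * t)⁻¹ * ((x : G)⁻¹ * y) by group,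
        show (x : G)⁻¹ * y = q * t * d from e, inv_mul_cancel_left]
  haveI : FaithfulSMul M (M ⧸ B) := ⟨fun h => by
    refine (MonoidHom.ker_eq_bot_iff (MulAction.toPermHom M (M ⧸ B))).1 ?_ (Equiv.ext h)
    rw [← normalCore_eq_ker]
    exact (map_eq_bot_iff_of_injective _ M.subtype_injective).1
      (fa _ (map_le_iff_le_comap.2 (normalCore_le B)) (norm_map _))⟩
  obtain ⟨L, n, o, h⟩ := Cfsg.Agent.S1136.result (G := M) (Ω := M ⧸ B) (a := ((1 : M) : M ⧸ B)) (t := ⟨t, ht⟩)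
    (Q := Q.subgroupOf M) ⟨MulAction.is_two_pretransitive_iff.2 fun {x y z w} h1 h2 => by
      obtain ⟨g, g1, g2⟩ := key x y h1
      obtain ⟨k, k1, k2⟩ := key z w h2
      exact ⟨k * g⁻¹, by rw [← g1, mul_smul, inv_smul_smul, k1], by rw [← g2, mul_smul, inv_smul_smul, k2]⟩,
    Subtype.ext t2, fun e => tB ((show 1 = t from congrArg Subtype.val e.symm) ▸ one_mem _), s1.symm ▸ tB,
    s1.symm ▸ fun _ h => mem_sup_left h, s1.symm ▸ fun g h x hx => conj_mem_of_mem_normalizer (G := G) (nB h) hx,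
    eq_bot_iff.2 fun g h => Subtype.ext (fr g h.1 ((s2 g).1 h.2)),
    by rw [s1, s3, hB, subgroupOf_sup hQ hD], (card_sub hQ).symm ▸ eQ, by rw [s1, s3, card_sub hD]; exact oD⟩
    ⟨⟨a, ha⟩, ⟨b, hb⟩, fun e => a1 (congrArg Subtype.val e), fun e => b1 (congrArg Subtype.val e),
      fun e => ab (congrArg Subtype.val e), Subtype.ext a2, Subtype.ext b2, Subtype.ext cm⟩
  have l64 : ¬ 64 ∣ Nat.card L := fun d => h64 (d.trans (card_subgroup_dvd_card L))
  rcases h with ⟨F, _, _, ⟨k, -, e⟩, f⟩ | ⟨F, _, _, m, h1, h2, ⟨f⟩⟩ | ⟨F, _, _, k, h1, h2, ⟨f⟩⟩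
  · exact ⟨L, n, o, F, _, _, ⟨k, e⟩, f⟩
  · haveI : H14.Sz.SzF F m := ⟨h1, h2⟩
    refine absurd ?_ l64
    rw [Nat.card_congr f.toEquiv, (H14.Sz.lieModel F m).card_G, h2, ← pow_mul]
    exact ((pow_dvd_pow 2 (show 6 ≤ (2 * m + 1) * 2 by omega)).mul_right _).mul_right _
  · haveI : H11.U.IsSq F (2 ^ k) := ⟨h2⟩
    refine absurd ?_ l64
    have e1 := H11.U.card_SU_eq_mul_card_PSU (F := F) (q := 2 ^ k) (n := 3) (by norm_num)
    have e2 := H11.U.card_GU_eq_mul_card_SU (F := F) (q := 2 ^ k) (n := 3) (by norm_num)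
    rw [H11.U.card_GU, e1, ← Nat.card_congr f.toEquiv, ← mul_assoc] at e2
    refine Nat.Coprime.dvd_of_dvd_mul_left (m := (2 ^ k + 1) * Nat.gcd 3 (2 ^ k + 1))
      (Nat.Coprime.pow_left 6 (Nat.Coprime.mul_right (k := 2) ?_ ?_)) (e2 ▸ Dvd.dvd.mul_right ?_ _)
    · exact Nat.coprime_two_left.2 ((Nat.even_pow.2 ⟨even_two, by omega⟩).add_one)
    · exact Nat.Coprime.coprime_dvd_right (Nat.gcd_dvd_left _ _) (by norm_num)
    · rw [← pow_mul]; exact pow_dvd_pow 2 (show 6 ≤ k * 3 by omega)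

end H74.J4N
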