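import Cfsg.Agent.Lib.J4M.Tab
import Cfsg.Agent.Lib.J4N.Gen
import Cfsg.Agent.Lib.J4N.El
import Cfsg.Agent.Lib.J4N.Dat

/-! Checks for classes, orbits and small subgroups; the arithmetic of subgroup orders. -/

set_option autoImplicit false
set_option maxRecDepth 100000
set_option Elab.async false

namespace H74.J4N
open H54 hiding bnot bnot_eq_true In grp Enum Good c24
open H66.Vec H66.J4 Cfsg Cfsg.Spor H15.Mdl H75.J4 H74.J4C H74.J4M Subgroup
open scoped Pointwise

section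
variable {o : Ops} {G : Type*} [Group G] [Finite G] {R : G → ℕ → Prop}

/-- the entry `i` of an increasing list of conjugates of `p` -/
noncomputable def clsAt (o : Ops) (S Z : List ℕ) (T par : ℕ → ℕ) (n p i : ℕ) : Bool :=
  force (T i) fun t => force (par i) fun x => force (Nat.shiftRight x 10) fun k => force (Nat.land x 15) fun j =>
    band (bor (Nat.ble n (Nat.succ i)) (Nat.ble (Nat.succ t) (T (Nat.succ i))))
      (bor (o.eqv p t) (band (Nat.ble (Nat.succ k) n) (band (Nat.ble (Nat.succ j) (len S))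
        (band (Nat.ble (Nat.succ (Nat.land (par k) 1023)) (Nat.land x 1023))
          (o.eqv (o.mul (o.mul (nth S j) (T k)) (nth Z j)) t)))))

theorem cls_low (h : Sound o R) (he : ∀ p q, o.eqv p q = Nat.beq p q) {Y : Subgroup G} {S Z : List ℕ}
    (hS : AllIn R Y S) (hZ : AllIn R ⊤ Z) (l : S.length = Z.length)
    (c0 : allLt (fun j => o.isOne (o.mul (nth S j) (nth Z j))) (len S) = true) {x : G} {p n : ℕ} (r : R x p)
    {T par : ℕ → ℕ} (c : ∀ i, i < n → clsAt o S Z T par n p i = true) :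
    n * Nat.card ↥(Y ⊓ centralizer {x}) ≤ Nat.card Y := by
  simp only [clsAt, force_eq, band_eq_true, bor_eq_true, Nat.ble_eq, len_eq, allLt_iff] at c c0
  have k1 : ∀ d i, i < n → Nat.land (par i) 1023 < d → ∃ g ∈ clsIn Y x, R g (T i) := by
    intro d
    induction d with
    | zero => intro i _ a; omega
    | succ d ih =>
      intro i hi a
      rcases (c i hi).2 with e | ⟨a1, a2, a3, e⟩
      · exact ⟨x, ⟨1, Y.one_mem, by simp⟩, h.tr r e⟩
      · obtain ⟨_, ⟨b, hb, rfl⟩, rg⟩ := ih _ a1 (by omega)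
        obtain ⟨s, hs, rs⟩ := hS _ (nth_mem _ _ a2)
        obtain ⟨u, -, ru⟩ := hZ _ (nth_mem _ _ (l ▸ a2))
        obtain rfl := eq_inv_of_mul_eq_one_right ((h.isOne_iff (h.mul rs ru)).1 (c0 _ a2))
        exact ⟨_, ⟨s * b, Y.mul_mem hs hb, by group⟩, h.tr (h.mul (h.mul rs rg) ru) e⟩
  have k2 : ∀ j i, i < j → j < n → T i < T j := by
    intro j
    induction j with
    | zero => intro i hi; omega
    | succ j ih =>
      intro i hi hj
      have : T j < T (j + 1) := (c j (by omega)).1.resolve_left (by omega)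
      rcases (Nat.le_of_lt_succ hi).eq_or_lt with rfl | h1
      · exact this
      · exact (ih i h1 (by omega)).trans this
  choose f hf rf using fun i : Fin n => k1 _ i i.2 (Nat.lt_succ_self _)
  have := Nat.card_le_card_of_injective (fun i => (⟨f i, hf i⟩ : clsIn Y x)) fun i j e => by
    have e' := h.canon he (rf i) ((show f j = f i from congrArg Subtype.val e.symm) ▸ rf j)
    rcases lt_trichotomy (i : ℕ) j with a | a | a
    · exact absurd e' (k2 j i a j.2).ne
    · exact Fin.ext a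
    · exact absurd e' (k2 i j a i.2).ne'
  rw [Nat.card_fin, Nat.card_coe_set_eq] at this
  rw [← ncard_clsIn_mul Y x]
  exact Nat.mul_le_mul_right _ this

theorem norm_grp (h : Sound o R) {Q W : List ℕ} {s : G} {p : ℕ} (rs : R s p) (v : AllIn R (grp R Q) W)
    (c : allL (fun q => anyL (fun w => o.cj p q w) W) Q = true) : s ∈ normalizer (grp R Q : Set G) :=
  H68.mem_normalizer_of_cj_le (H68.cj_le_iff'.2 (conj_mem_of_gens h rs v c))

omit [Finite G] in
theorem allIn_idx {H : Subgroup G} {n : ℕ} {T : ℕ → ℕ} (m : Mem R H n T) (I : List ℕ) (c : ∀ i ∈ I, i < n) :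
    AllIn R H (I.map T) := fun s hs => by
  obtain ⟨i, hi, rfl⟩ := List.mem_map.1 hs
  exact m.2 i (c i hi)

omit [Finite G] in
theorem not_cent (h : Sound o R) {g w : G} {a c : ℕ} (r : R g a) (rw' : R w c) (e : o.comm a c = false) :
    g ∉ centralizer {w} := fun m => absurd ((h.comm_iff r rw').2 (mem_cent.1 m)) (by rw [e]; decide)

end

theorem allL_append {α : Type} {f : α → Bool} {A B : List α} (a : allL f A = true) (b : allL f B = true) :
    allL f (A ++ B) = true := by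
  rw [allL_iff] at *
  exact fun x hx => (List.mem_append.1 hx).elim (a x) (b x)

/-- `v` is one of the columns -/
noncomputable def memB (n q v : ℕ) : Bool := force v fun v => bnot (allLt (fun k => bnot (Nat.beq (cB 112 q k) v)) n)

/-- the codes permute the columns -/
noncomputable def orbChk (n q : ℕ) (S : List ℕ) : Bool :=
  allL (fun a => force (mB 112 n a q) fun q' => allLt (fun j => memB n q (cB 112 q' j)) n) S

theorem not_mem_orb {n q a : ℕ} {S : List ℕ} (hn : 0 < n) (c : orbChk n q S = true) {g : J4} (r : RJ2 g a)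
    (e : memB n q (mB 112 1 a (cB 112 q 0)) = false) : g ∉ grp RJ2 S := fun hg => by
  simp only [orbChk, memB, force_eq, allL_iff, allLt_iff, bnot_eq_true, not_forall, not_not, Nat.beq_eq] at c
  let C := (fun j => vJ (cB 112 q j)) '' Set.Iio n
  have l : grp RJ2 S ≤ MulAction.stabilizer J4 C := grp_le_of fun s hs b rb => by
    rw [MulAction.mem_stabilizer_set_iff_smul_set_subset ((Set.finite_Iio n).image _)]
    rintro _ ⟨_, ⟨j, hj, rfl⟩, rfl⟩
    obtain ⟨k, hk, e⟩ := c s hs j hj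
    exact ⟨k, hk, (congrArg _ e).trans (rb.smul_col (w := 7) (μ := 1) (s := 1) (by decide) q hj).symm⟩
  obtain ⟨k, hk, e'⟩ : g • vJ (cB 112 q 0) ∈ C :=
    MulAction.mem_stabilizer_iff.1 (l hg) ▸ Set.smul_mem_smul_set ⟨0, hn, rfl⟩
  have s := r.smul (w := 7) (μ := 1) (s := 1) (by decide) (cB_lt 112 q 0)
  refine absurd ?_ (by rw [e]; decide : ¬ memB n q (mB 112 1 a (cB 112 q 0)) = true)
  simp only [memB, force_eq, allLt_iff, bnot_eq_true, not_forall, not_not, Nat.beq_eq]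
  exact ⟨k, hk, dv_inj (by decide) (cB_lt _ _ _) s.1 (e'.trans s.2)⟩

theorem ne_top_orb {n q : ℕ} {S : List ℕ} (hn : 0 < n) (c : orbChk n q S = true)
    (e : memB n q (mB 112 1 (nth LB 0) (cB 112 q 0)) = false) : grp RJ2 S ≠ ⊤ := fun h =>
  not_mem_orb hn c (rb_let (l := 0) (by decide)) e (h ▸ mem_top _)

theorem grp_fix {q : ℕ} {S : List ℕ} (c : allL (fun a => Nat.beq (mB 112 1 a (cB 112 q 0)) (cB 112 q 0)) S = true) :
    grp RJ2 S ≤ MulAction.stabilizer J4 (vJ (cB 112 q 0)) :=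
  grp_le_of fun s hs _ r => smul_pt r ((allL_iff _ _).1 c s hs)

theorem free_of {Q B : Subgroup J4} {n q a : ℕ} {T : ℕ → ℕ} (cv : Cov RJ2 Q n T)
    (hB : B ≤ MulAction.stabilizer J4 (vJ (cB 112 q 0))) {t : J4} (r : RJ2 t a)
    (c : force (mB 112 1 a (cB 112 q 0)) (fun w =>
      allLt (fun i => bor (oJ.isOne (T i)) (bnot (Nat.beq (mB 112 1 (T i) w) w))) n) = true) :
    ∀ u ∈ Q, t⁻¹ * u * t ∈ B → u = 1 := fun u hu h => by
  rw [force_eq] at c
  obtain ⟨p, rp, e⟩ := cv.forall (P := fun p => bor (oJ.isOne p) (bnot (Nat.beq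
    (mB 112 1 p (mB 112 1 a (cB 112 q 0))) (mB 112 1 a (cB 112 q 0))))) c u hu
  rw [bor_eq_true, bnot_eq_true, Nat.beq_eq] at e
  refine (sJ.isOne_iff rp).1 (e.resolve_right fun n => n ?_)
  have s := r.smul (w := 7) (μ := 1) (s := 1) (by decide) (cB_lt 112 q 0)
  have s' := rp.smul (w := 7) (μ := 1) (s := 1) (by decide) s.1
  refine dv_inj (by decide) s'.1 s.1 (s'.2.symm.trans ?_)
  rw [← s.2, ← mul_smul, ← inv_smul_eq_iff, ← mul_smul, ← mul_assoc]
  exact hB h

theorem jJ : ∃ U, J11 mdJ (mdJ.u * mdJ.z) U := j11_map (MulEquiv.refl J4)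

theorem okJ {M : Subgroup J4} (hM : M ≠ ⊤) : OK (Nat.card M) true true true :=
  jJ.elim fun _ j => ok_of j (fun _ => seven_J.1) (fun _ => mx37_J) (fun _ => seven_J.2) hM

theorem arith {P : ℕ → Prop} [DecidablePred P] {n : ℕ} (chk : allD (fun k => decide (P k → OK k true true true →
    k = n ∨ k * 2 = 86775571046077562880 ∨ k = 86775571046077562880)) LJ 1 = true) {M : Subgroup J4} (hM : M ≠ ⊤)
    (h : P (Nat.card M)) : Nat.card M = n := by
  obtain ⟨U, j⟩ := jJ
  rcases of_decide_eq_true (allJ chk (dvd_J j M)) h (okJ hM) with e | e | e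
  exacts [e, (top_of_two j e).elim, absurd (top_of_card j e) hM]

theorem maxJ {X : Subgroup J4} {n : ℕ} (hX : X ≠ ⊤) (h : ∀ M, X ≤ M → M ≠ ⊤ → Nat.card M = n) :
    Nat.card X = n ∧ IsCoatom X :=
  ⟨h X le_rfl hX, hX, fun M l => by_contra fun a =>
    l.ne (eq_of_le_of_card_ge l.le (by rw [h M l.le a, h X le_rfl hX]))⟩

theorem not7 {M : Subgroup J4} (hM : M ≠ ⊤) (a : 7 ∣ Nat.card M)
    (b : ∀ i, i < [[1, 0, 1, 1], [1, 1, 1, 1]].length → bv (nthW [[1, 0, 1, 1], [1, 1, 1, 1]] i) ∣ Nat.card M) : False :=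
  (arith (P := fun k => 7 ∣ k ∧ 29 ∣ k ∧ 31 ∣ k) (n := 0) (by decide +kernel) hM
    ⟨a, b 0 (by decide), b 1 (by decide)⟩ ▸ Nat.card_pos (α := M)).false

theorem allIn7 {H : Subgroup J4} {a b c d e f : ℕ} (ha : In RJ2 H a) (hb : In RJ2 H b) (hc : In RJ2 H c)
    (hd : In RJ2 H d) (he : In RJ2 H e) (hf : In RJ2 H f) : AllIn RJ2 H [k1, a, b, c, d, e, f] :=
  .cons (pad _) (.cons ha (.cons hb (.cons hc (.cons hd (.cons he (.cons hf (allIn_nil _)))))))

theorem allIn2 {g h : J4} {a b : ℕ} (r : RJ2 g a) (r' : RJ2 h b) :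
    AllIn RJ2 (zpowers g ⊔ zpowers h) [k1, a, b, k1, k1, k1, k1] :=
  allIn7 ⟨g, mem_sup_left (mem_zpowers g), r⟩ ⟨h, mem_sup_right (mem_zpowers h), r'⟩ (pad _) (pad _) (pad _) (pad _)

theorem rx : RJ2 (mdJ.u * mdJ.z) kx := sJ.tr r_x (by decide +kernel)

theorem rz : RJ2 mdJ.z (nth LQ 12) := rzJ

theorem memU {U : Subgroup J4} (j : J11 mdJ (mdJ.u * mdJ.z) U) {a : J4} {c : ℕ} (r : RJ2 a c)
    (e : band (oJ.comm c kx) (oJ.isOne (oJ.pow c 11)) = true) : a ∈ U := by
  rw [band_eq_true] at e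
  exact mem_U j.h j.h11 j.o (in_cent sJ r rx e.1) (k := 1) ((sJ.isOne_iff (sJ.pow r 11)).1 e.2)

theorem card_a11 {a : J4} (r : RJ2 a ka11) : orderOf a = 11 ∧ Nat.card (normalizer (zpowers a : Set J4)) ≤ 2420 := by
  obtain ⟨U, j⟩ := jJ
  have o : orderOf a = 11 := ordP_spec sJ r (L := [1, 1, 0]) (by decide +kernel) (by decide +kernel)
  obtain ⟨y, hy, n, -, c, -⟩ := exists_y j.h j.h11 j.o j.hc j.hP
  obtain ⟨g, -, e⟩ := conj_y j.h j.h11 j.o j.hc j.hP hy n c (memU j r (by decide +kernel)) fun h =>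
    not_cent sJ r rz (by decide +kernel) (zpowers_le.2 (in_cent sJ rx rz (by decide +kernel)) h)
  refine ⟨o, (norm_tot a).trans ?_⟩
  rw [o, ← e, card_cent_conj, c]; decide

theorem eqns_Base : True := by
  have := @clsAt.eq_1
  have := @memB.eq_1
  have := @orbChk.eq_1
  trivial

end H74.J4N
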