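import Cfsg.Agent.Lib.J4N.Base
import Cfsg.Agent.Lib.J4N.CyD

/-! The normaliser of a cyclic subgroup of order 8. -/

set_option autoImplicit false
set_option maxRecDepth 100000
set_option Elab.async false

namespace H74.J4N
open H54 hiding bnot bnot_eq_true In grp Enum Good c24 permOf
open H15 (okP permOf mulP idP okP_idP permOf_idP okP_mulP permOf_mulP mulP_lt permOf_inj M22ext card_M22ext betaC gammaC)
open H66.Vec H66.J4 Cfsg Cfsg.Spor H15.Mdl H75.J4 H74.J4C H74.J4M Subgroup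

/-- operations on permutation codes -/
noncomputable def oP : Ops := ⟨fun a b => force a fun a => force b fun b => mulP a b, idP, Nat.beq⟩

/-- the permutation codes -/
def RP (g : Equiv.Perm GolayPt) (c : ℕ) : Prop := okP c = true ∧ c < 32 ^ 24 ∧ permOf c = g

theorem sP : Sound oP RP :=
  ⟨⟨okP_idP, by decide, permOf_idP⟩,
    fun {_ _ p q} a b => by
      rw [show oP.mul p q = mulP p q by simp only [oP, force_eq]]
      exact ⟨okP_mulP a.1 b.1, mulP_lt _ _, by rw [← a.2.2, ← b.2.2]; exact permOf_mulP a.1 b.1⟩,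
    fun a e => Nat.eq_of_beq_eq_true e ▸ a, fun a b => a.2.2.symm.trans b.2.2,
    fun a b => Nat.beq_eq ▸ permOf_inj a.1 b.1 a.2.1 b.2.1 (a.2.2.trans b.2.2.symm)⟩

theorem inP (i : ℕ) (hi : i < 17) : In RP M22ext (nth J4C.LP i) :=
  ⟨_, mdJ.π_mem' (hw_let i hi).mem, (hw_let i hi).ok, (by decide +kernel : ∀ i, i < 17 → nth J4C.LP i < 32 ^ 24) i hi,
    (hw_let i hi).per.symm⟩

theorem rγ : RP (permOf gammaC) gammaC := ⟨by decide +kernel, by decide +kernel, rfl⟩

theorem k1a : allLt (clsAt oP S1 S1 (cB 120 T1) (cB 24 P1) 1386 gammaC) 1386 = true := by decide +kernel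

theorem cent_γ : Nat.card ↥(M22ext ⊓ centralizer {permOf gammaC}) ≤ 640 := by
  have v : AllIn RP M22ext S1 := (AllIn.cons (inP 14 (by decide)) (.cons (inP 15 (by decide)) (.cons (inP 16 (by decide))
    (allIn_nil _)))).of_wordsChk sP [[0, 2], [2, 0], [1, 0, 1, 1, 0, 0, 1], [2, 1, 0, 1, 1, 1]] S1 (by decide +kernel)
  have := cls_low sP (fun _ _ => rfl) v (v.mono le_top) rfl (by decide +kernel) rγ (forall_of_allLt k1a)
  rw [card_M22ext] at this
  omega

theorem inY {w : List ℕ} {c : ℕ}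
    (h : band (okW 17 w) (band (oJ.eqv (oJ.word LQ w) c) (oP.comm (pW w) gammaC)) = true) (l : pW w < 32 ^ 24) :
    In RJ2 (mdJ.pre (M22ext ⊓ centralizer {permOf gammaC})) c := by
  rw [band_eq_true, band_eq_true] at h
  have a := hW h.1
  exact ⟨_, mdJ.mem_pre.2 ⟨a.mem, mdJ.π_mem' a.mem, in_cent sP ⟨a.ok, l, a.per.symm⟩ rγ h.2.2⟩, sJ.tr a.r h.2.1⟩

theorem vS2 : AllIn RJ2 (mdJ.pre (M22ext ⊓ centralizer {permOf gammaC})) S2 :=
  show AllIn RJ2 _ [nth S2 0, nth S2 1, nth S2 2, nth S2 3, nth S2 4] from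
  .cons (inY (w := [15]) (by decide +kernel) (by decide +kernel))
  (.cons (inY (w := [16]) (by decide +kernel) (by decide +kernel))
  (.cons (inY (w := [16, 15, 14, 15, 14, 15, 15, 14, 15, 14, 14, 15, 14, 14, 14]) (by decide +kernel) (by decide +kernel))
  (.cons (inY (w := [15, 14, 14, 14, 15, 15, 14, 15, 14, 14, 16, 15, 15, 15, 14]) (by decide +kernel) (by decide +kernel))
  (.cons (inY (w := [14, 14, 14, 15, 15, 14, 14, 14, 14, 15, 15, 14, 14, 14]) (by decide +kernel) (by decide +kernel))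
  (allIn_nil _)))))

theorem k2a : allLt (clsAt oJ S2 Z2 (nth T2) (cB 24 P2) 192 kr) 48 = true := by decide +kernel
theorem k2b : allFrom (clsAt oJ S2 Z2 (nth T2) (cB 24 P2) 192 kr) 48 48 = true := by decide +kernel
theorem k2c : allFrom (clsAt oJ S2 Z2 (nth T2) (cB 24 P2) 192 kr) 96 48 = true := by decide +kernel
theorem k2d : allFrom (clsAt oJ S2 Z2 (nth T2) (cB 24 P2) 192 kr) 144 48 = true := by decide +kernel
theorem k2 : ∀ i, i < 192 → clsAt oJ S2 Z2 (nth T2) (cB 24 P2) 192 kr i = true :=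
  forall_append (k := 144) (l := 48) (forall_append (k := 96) (l := 48)
    (forall_append (k := 48) (l := 48) (forall_of_allLt k2a) k2b) k2c) k2d
theorem k3a : allLt (clsAt oJ ([2, 3, 4, 6, 7, 8].map (nth LQ)) Z3 (nth T3) (cB 24 P3) 64 ky) 64 = true := by
  decide +kernel

theorem pow_ky {y : J4} (r : RJ2 y ky) : orderOf y = 8 ∧ y ^ 4 = mdJ.z :=
  ⟨sJ.orderOf_eq r (fuel := 8) (by decide +kernel) (by decide), (sJ.eqv_iff (sJ.pow r 4) rz).1 (by decide +kernel)⟩

theorem card_Ny {y : J4} (r : RJ2 y ky) : Nat.card (normalizer (zpowers y : Set J4)) ≤ 5120 := by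
  have r2 : RJ2 (y ^ 2) kr := sJ.tr (sJ.pow r 2) (by decide +kernel)
  have a := hW (w := [16, 13, 0]) (by decide +kernel)
  obtain rfl : eH [16, 13, 0] = y := (sJ.eqv_iff a.r r).1 (by decide +kernel)
  have πy := a.per.trans (congrArg permOf (show _ = gammaC by decide +kernel))
  have c2 := cls_low sJ (fun _ _ => rfl) vS2 ((vS2.mono le_top).of_wordsChk sJ [[0, 0, 0], [1], [2], [3], [4]] Z2
    (by decide +kernel)) rfl (by decide +kernel) r2 k2
  have v : AllIn RJ2 (mdJ.pre (M22ext ⊓ centralizer {permOf gammaC}) ⊓ centralizer {eH [16, 13, 0] ^ 2})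
      ([2, 3, 4, 6, 7, 8].map (nth LQ)) := fun s hs => by
    obtain ⟨i, hi, rfl⟩ := List.mem_map.1 hs
    have h := (allL_iff _ _).1 (show allL (fun i => band (band (okW 17 [i]) (band (oJ.eqv (oJ.word LQ [i]) (nth LQ i))
      (oP.comm (pW [i]) gammaC))) (band (Nat.blt (pW [i]) (32 ^ 24)) (oJ.comm (nth LQ i) kr))) [2, 3, 4, 6, 7, 8] = true
      by decide +kernel) i hi
    rw [band_eq_true, band_eq_true (Nat.blt _ _), Nat.blt_eq] at h
    obtain ⟨g, hg, rg⟩ := inY h.1 h.2.1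
    exact ⟨g, ⟨hg, in_cent sJ rg r2 h.2.2⟩, rg⟩
  have c3 := cls_low sJ (fun _ _ => rfl) v (allIn_LQ.of_wordsChk sJ [[2, 12], [3, 12], [4, 12], [6, 12], [7, 12], [8, 12]]
    Z3 (by decide +kernel)) rfl (by decide +kernel) r (forall_of_allLt k3a)
  have l : centralizer {eH [16, 13, 0]} ≤ mdJ.pre (M22ext ⊓ centralizer {permOf gammaC}) ⊓
      centralizer {eH [16, 13, 0] ^ 2} ⊓ centralizer {eH [16, 13, 0]} := fun g hg => by
    have k : ∀ n : ℕ, g ∈ centralizer {eH [16, 13, 0] ^ n} := fun n =>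
      mem_cent.2 (Commute.pow_right (mem_cent.1 hg) n).eq
    have gH : g ∈ mdJ.H := mdJ.mem_H.2 (mem_cent.1 ((pow_ky r).2 ▸ k 4))
    refine ⟨⟨mdJ.mem_pre.2 ⟨gH, mdJ.π_mem' gH, mem_cent.2 ?_⟩, k 2⟩, hg⟩
    rw [← πy, ← mdJ.π_mul' gH a.mem, ← mdJ.π_mul' a.mem gH, mem_cent.1 hg]
  have c4 := card_le_of_le l
  have c5 := norm_tot (eH [16, 13, 0])
  have c1 := cent_γ
  rw [mdJ.card_pre inf_le_left] at c2
  rw [(pow_ky r).1, show Nat.totient 8 = 4 by decide] at c5
  omega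

theorem eqns_Cy : True := by
  have := @oP.eq_1
  have := @RP.eq_1
  trivial

end H74.J4N
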