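import Cfsg.Agent.Lib.J4N.Tab
import Cfsg.Agent.Lib.J4L.Cent
import Cfsg.Agent.S1663

/-! The maximal subgroup `M₂₂ : 2` of the fourth Janko group. -/

set_option autoImplicit false
set_option maxRecDepth 100000
set_option Elab.async false

namespace H74.J4N
open H54 hiding bnot bnot_eq_true In grp Enum Good c24 grp_le
open H66.Vec H66.J4 Cfsg Cfsg.Spor H15.Mdl H75.J4 H74.J4C H74.J4M Subgroup

theorem aut_iso {G : Type*} [Group G] [Finite G] {M K : Subgroup G} (l : M ≤ normalizer (K : Set G))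
    (c : M ⊓ centralizer (K : Set G) = ⊥) (e : Nat.card M = Nat.card (MulAut K)) : Nonempty (M ≃* MulAut K) :=
  ⟨MulEquiv.ofBijective (K.normalizerMonoidHom.comp (inclusion l)) ((Nat.bijective_iff_injective_and_card _).2
    ⟨(injective_iff_map_eq_one _).2 fun g h => Subtype.ext (mem_bot.1 (c ▸ ⟨g.2,
      show inclusion l g ∈ (centralizer (K : Set G)).subgroupOf _ from K.normalizerMonoidHom_ker ▸ h⟩)), e⟩)⟩

theorem v22 : AllIn RJ2 (grp RJ2 [ka11, ka2, nth LQ 12]) [ka11, ka2, nth LQ 12] :=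
  (AllIn.cons i_ka11 (.cons i_ka2 (.cons ⟨_, mem_top _, rz⟩ (allIn_nil _)))).grp_self

theorem w22 : AllIn RJ2 (grp RJ2 [ka11, ka2, nth LQ 12]) [km7, kn6, kg8, kh1, kh2, kfz] :=
  (v22.append (v22.of_wordsChk sJ [[0, 1, 1, 0, 0, 0, 0, 1, 1, 0, 1, 0, 1, 1, 0, 0, 1, 1]] [kf]
    (by decide +kernel))).of_wordsChk sJ [[1, 0, 2, 1, 0, 2], [3, 1, 2, 0, 0, 1], [1, 3, 0, 0],
      [0, 3, 0, 1, 0, 1, 2, 0, 2, 1, 0], [0, 3, 1, 0, 3, 2, 1, 3, 0], [3, 2]] _ (by decide +kernel)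

theorem KM22 : grp RJ2 [ka11, ka2] ≤ grp RJ2 [ka11, ka2, nth LQ 12] :=
  grp_le sJ (.cons (v22 ka11 (by simp)) (.cons (v22 ka2 (by simp)) (allIn_nil _)))

theorem n22 : grp RJ2 [ka11, ka2, nth LQ 12] ≤ normalizer (grp RJ2 [ka11, ka2] : Set J4) ∧
    Nat.card (grp RJ2 [ka11, ka2, nth LQ 12]) = Nat.card (grp RJ2 [ka11, ka2]) * 2 := by
  have v : AllIn RJ2 (grp RJ2 [ka11, ka2]) [ka11, ka2] := (AllIn.cons i_ka11 (.cons i_ka2 (allIn_nil _))).grp_self
  have nz := norm_grp sJ rz (W := [oJ.pow ka11 10, oJ.pow ka2 10])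
    (.cons ((v ka11 (by simp)).pow sJ 10) (.cons ((v ka2 (by simp)).pow sJ 10) (allIn_nil _))) (by decide +kernel)
  have e : grp RJ2 [ka11, ka2, nth LQ 12] = grp RJ2 [ka11, ka2] ⊔ zpowers mdJ.z := le_antisymm
    (grp_le sJ (.cons ((v ka11 (by simp)).mono le_sup_left) (.cons ((v ka2 (by simp)).mono le_sup_left)
      (.cons ⟨_, mem_sup_right (mem_zpowers _), rz⟩ (allIn_nil _)))))
    (sup_le KM22 (zpowers_le.2 (mem_grp (by simp) rz)))
  rw [e]
  exact ⟨sup_le le_normalizer (zpowers_le.2 nz), card_sup_prime Nat.prime_two mdJ.orderOf_z nz rfl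
    (not_mem_orb (n := 22) (q := o22) (by decide) (by decide +kernel) rz (by decide +kernel))⟩

theorem tab22 {a f : J4} (ra : RJ2 a ka11) (rf : RJ2 f kfz) {M : Subgroup J4} (l : grp RJ2 [ka11, ka2, nth LQ 12] ≤ M)
    (n : M ≠ ⊤) : Nat.card ↥(zpowers a ⊔ zpowers f) = 11 * 10 ∧
      M ⊓ normalizer (zpowers a : Set J4) = zpowers a ⊔ zpowers f := by
  obtain ⟨m, hm, rm⟩ := w22 km7 (by simp)
  obtain ⟨g, -, rg⟩ := i_kf
  obtain ⟨s, -, rs⟩ := i_ks2
  have om : orderOf m = 7 := ordP_spec sJ rm (L := [1, 1]) (by decide +kernel) (by decide +kernel)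
  have fa := in_norm sJ rf ra 6 (by decide +kernel)
  have c := card_sup_cop (zpowers_le.2 fa) (card_zp (card_a11 ra).1)
    (card_zp (sJ.orderOf_eq rf (fuel := 10) (n := 10) (by decide +kernel) (by decide))) (by decide)
  have SY := sup_le le_normalizer (zpowers_le.2 fa)
  have SM := sup_le (zpowers_le.2 (l ((v22 _ (by simp)).mem sJ ra))) (zpowers_le.2 (l ((w22 _ (by simp)).mem sJ rf)))
  refine ⟨c, le_antisymm ((tabJ tC cC (by decide +kernel) le_rfl SY SM (by rw [c]; exact (card_a11 ra).2)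
    (sup_le (zpowers_le.2 (smul_pt ra (by decide +kernel))) (zpowers_le.2 (smul_pt rf (by decide +kernel))))
    (allIn7 ⟨_, in_norm sJ rx ra 1 (by decide +kernel), rx⟩ ⟨a, le_normalizer (mem_zpowers a), ra⟩
      ⟨g, in_norm sJ rg ra 5 (by decide +kernel), rg⟩ ⟨s, in_norm sJ rs ra 1 (by decide +kernel), rs⟩
      ⟨_, in_norm sJ rz ra 10 (by decide +kernel), rz⟩ (pad _))
    (allIn2 ra rf) (v22.mono l)).resolve_right (not7 n (om ▸ orderOf_dvd_card_of_mem (l hm)))) (le_inf SM SY)⟩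

theorem card_m22 : Nat.card (grp RJ2 [ka11, ka2, nth LQ 12]) = 887040 ∧ IsCoatom (grp RJ2 [ka11, ka2, nth LQ 12]) := by
  haveI : Fact (Nat.Prime 11) := ⟨by norm_num⟩
  haveI : Fact (Nat.Prime 7) := ⟨by norm_num⟩
  obtain ⟨U, j⟩ := jJ
  obtain ⟨a, ha, ra⟩ := v22 ka11 (by simp)
  obtain ⟨m, hm, rm⟩ := w22 km7 (by simp)
  obtain ⟨s, hs, rs⟩ := w22 kn6 (by simp)
  obtain ⟨g, hg, rg⟩ := w22 kg8 (by simp)
  obtain ⟨h, hh, rh⟩ := w22 kh1 (by simp)
  obtain ⟨k, hk, rk⟩ := w22 kh2 (by simp)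
  obtain ⟨f, -, rf⟩ := w22 kfz (by simp)
  obtain ⟨p, -, rp⟩ := i_kp7m
  have om : orderOf m = 7 := ordP_spec sJ rm (L := [1, 1]) (by decide +kernel) (by decide +kernel)
  have sm := in_norm sJ rs rm 4 (by decide +kernel)
  have c := card_sup_cop (zpowers_le.2 sm) (card_zp om)
    (card_zp (sJ.orderOf_eq rs (fuel := 6) (n := 6) (by decide +kernel) (by decide))) (by decide)
  have SY := sup_le le_normalizer (zpowers_le.2 sm)
  have c16 := card_sup_prime Nat.prime_two (ordP_spec sJ rh (L := [0]) (by decide +kernel) (by decide +kernel))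
    (in_norm sJ rh rg 5 (by decide +kernel))
    (card_zp (sJ.orderOf_eq rg (fuel := 8) (n := 8) (by decide +kernel) (by decide)))
    (not_mem_zp (not_cent sJ rh rg (by decide +kernel)))
  have c32 := card_sup_prime Nat.prime_two (ordP_spec sJ rk (L := [0]) (by decide +kernel) (by decide +kernel))
    (normalizer_inf_normalizer_le_normalizer_sup _ _ ⟨in_norm sJ rk rg 7 (by decide +kernel),
      in_norm sJ rk rh 1 (by decide +kernel)⟩) c16 fun a => not_cent sJ rk (sJ.pow rg 2) (by decide +kernel)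
      (sup_le (zp_le_cent (pow_mem (mem_zpowers g) 2)) (zpowers_le.2 (in_cent sJ rh (sJ.pow rg 2) (by decide +kernel))) a)
  refine maxJ (fun e => top_of_two j (n22.2.symm.trans (by rw [e, card_top, j.hc]))) fun M l n => ?_
  have SM := sup_le (zpowers_le.2 (l hm)) (zpowers_le.2 (l hs))
  have t := (tabJ tD cD (by decide +kernel) le_rfl SY SM (by rw [c, card_norm_7 mdJ om])
    (sup_le (zpowers_le.2 (smul_pt rm (by decide +kernel))) (zpowers_le.2 (smul_pt rs (by decide +kernel))))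
    (allIn7 ⟨m, le_normalizer (mem_zpowers m), rm⟩ ⟨s, sm, rs⟩ ⟨p, in_norm sJ rp rm 1 (by decide +kernel), rp⟩
      (pad _) (pad _) (pad _))
    (allIn2 rm rs) (v22.mono l)).resolve_right (not7 n (om ▸ orderOf_dvd_card_of_mem (l hm)))
  obtain ⟨c1, c2⟩ := tab22 ra rf l n
  exact arith (P := fun k => 8 * 2 * 2 ∣ k ∧ (¬ 11 ^ (1 + 1) ∣ k ∧ 11 * 10 ∣ k ∧ k / (11 * 10) % 11 = 1) ∧
    ¬ 7 ^ (1 + 1) ∣ k ∧ 7 * 6 ∣ k ∧ k / (7 * 6) % 7 = 1) (by decide +kernel) n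
    ⟨c32 ▸ card_dvd_of_le (sup_le (sup_le (zpowers_le.2 (l hg)) (zpowers_le.2 (l hh))) (zpowers_le.2 (l hk))),
      pin (zpowers_le.2 (l ha)) (card_zp (card_a11 ra).1) (by rw [c2, c1]) (by norm_num),
      pin (zpowers_le.2 (l hm)) (card_zp om) (by rw [le_antisymm t (le_inf SM SY), c]) (by norm_num)⟩

theorem max_m22 : ∃ M : Subgroup J4, IsCoatom M ∧ Nonempty (M ≃* MulAut M22) := by
  haveI : Fact (Nat.Prime 11) := ⟨by norm_num⟩
  obtain ⟨U, j⟩ := jJ
  obtain ⟨a, -, ra⟩ := i_ka11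
  obtain ⟨b, -, rb⟩ := i_ka2
  obtain ⟨f, -, rf⟩ := w22 kfz (by simp)
  obtain ⟨cM, co⟩ := card_m22
  obtain ⟨nK, cK⟩ := n22
  have ha := mem_grp (S := [ka11, ka2]) (by simp) ra
  have hb := mem_grp (S := [ka11, ka2]) (by simp) rb
  have oa := (card_a11 ra).1
  replace cK : Nat.card (grp RJ2 [ka11, ka2]) = 443520 := by omega
  have hC : grp RJ2 [ka11, ka2, nth LQ 12] ⊓ centralizer {a} ≤ zpowers a := by
    rw [← cent_two (in_norm sJ rf ra 6 (by decide +kernel)) (zp_inf_bot' fun i hi h => ?_), ← (tab22 ra rf le_rfl co.1).2]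
    · exact le_inf inf_le_right (inf_le_inf_left _ (cent_le_norm a))
    · rw [sJ.orderOf_eq rf (fuel := 10) (n := 10) (by decide +kernel) (by decide)] at hi
      exact ((by decide +kernel : ∀ i, i < 10 → i = 0 ∨ oJ.comm (oJ.pow kfz i) ka11 = false) i hi).resolve_right
        fun e => not_cent sJ (sJ.pow rf i) ra e h
  have sK : IsSimpleGroup (grp RJ2 [ka11, ka2]) := simple_of (fun e => by rw [e, card_bot] at cK; omega) fun N hN hn => by
    by_cases d : 11 ∣ Nat.card N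
    · refine Or.inr (le_antisymm hN (grp_le sJ (.cons ⟨a, ?_, ra⟩ (.cons ⟨b, ?_, rb⟩ (allIn_nil _)))))
      · exact mem_of_dvd hN hn (by rw [cK]; norm_num) d ha oa
      · exact mem_of_dvd hN hn (by rw [cK]; norm_num) d hb
          (ordP_spec sJ rb (L := [1, 1, 0]) (by decide +kernel) (by decide +kernel))
    · exact Or.inl (card_eq_one.1 (of_decide_eq_true (allJ (P := fun k => decide (k ∣ 443520 → ¬ 11 ∣ k → BS k 11 1 →
        k = 1)) (by decide +kernel) (dvd_J j N)) (cK ▸ card_dvd_of_le hN) d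
        (bs_one j.hc oa (hn ha) ((inf_le_inf_right _ (hN.trans KM22)).trans hC) d)))
  obtain ⟨e1⟩ := Cfsg.Agent.S1663.result (G := grp RJ2 [ka11, ka2]) ⟨sK, cK⟩
  obtain ⟨e2⟩ := H75.J4.MM.M22ext_equiv
  obtain ⟨e3⟩ := aut_iso nK (eq_bot_iff.2 fun g hg => (zp_inf_bot (by norm_num) oa (not_cent sJ ra rb (by decide +kernel))).le
      ⟨hC ⟨hg.1, mem_cent.2 (hg.2 a ha).symm⟩, mem_cent.2 (hg.2 b hb).symm⟩)
    (by rw [cM, Nat.card_congr (MulAut.congr e1).toEquiv, ← Nat.card_congr e2.toEquiv, H15.card_M22ext])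
  exact ⟨_, co, ⟨e3.trans (MulAut.congr e1)⟩⟩

end H74.J4N
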