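import Cfsg.Agent.Lib.J4N.Tab

/-! The maximal subgroups `PGL(2, 23)` and `L₂(32) : 5` of the fourth Janko group. -/

set_option autoImplicit false
set_option maxRecDepth 100000
set_option Elab.async false

namespace H74.J4N
open H54 hiding bnot bnot_eq_true In grp Enum Good c24
open H66.Vec H66.J4 Cfsg Cfsg.Spor H15.Mdl H75.J4 H74.J4C H74.J4M Subgroup

theorem max_pgl : ∃ M : Subgroup J4, IsCoatom M ∧
    Nonempty (M ≃* GL (Fin 2) (ZMod 23) ⧸ center (GL (Fin 2) (ZMod 23))) := by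
  haveI : Fact (Nat.Prime 11) := ⟨by norm_num⟩
  obtain ⟨U, j⟩ := jJ
  obtain ⟨s, hs, rs⟩ : In RJ2 _ (kP 1) := v23b.grp_self _ (nth_mem _ _ (by decide))
  obtain ⟨y, hy, ry⟩ : In RJ2 _ (kP 2) := v23b.grp_self _ (nth_mem _ _ (by decide))
  obtain ⟨w, hw, rw'⟩ : In RJ2 _ (kP 3) := v23b.grp_self _ (nth_mem _ _ (by decide))
  obtain ⟨c, -, rc⟩ := i_kC23
  obtain ⟨p, -, rp⟩ := i_kp23
  obtain ⟨a, -, ra⟩ := i_ka11
  have os : orderOf s = 22 := sJ.orderOf_eq rs (fuel := 22) (by decide +kernel) (by decide)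
  have oy : orderOf y = 23 := ordP_spec sJ ry (L := [1, 1, 1, 0]) (by decide +kernel) (by decide +kernel)
  have ow : orderOf w = 2 := ordP_spec sJ rw' (L := [0]) (by decide +kernel) (by decide +kernel)
  have o11 : orderOf (s ^ 2) = 11 := by rw [orderOf_pow' _ (by norm_num), os]; rfl
  have cN := (card_a11 ra).2
  rw [← mul_inv_eq_iff_eq_mul.2 ((sJ.cj_iff rc (sJ.pow rs 2) ra).1 (by decide +kernel)), card_norm_conj] at cN
  have cS := card_sup_prime Nat.prime_two ow (in_norm sJ rw' rs 21 (by decide +kernel)) (card_zp os)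
    (not_mem_zp (not_cent sJ rw' rs (by decide +kernel)))
  have n1 := cent_le_norm _ (zp_le_cent (pow_mem (mem_zpowers s) 2) (mem_zpowers s))
  have n2 := in_norm sJ rw' (sJ.pow rs 2) 10 (by decide +kernel)
  have SY := sup_le (zpowers_le.2 n1) (zpowers_le.2 n2)
  obtain ⟨e⟩ := PGL23_J4
  refine ⟨_, (maxJ (n := 12144) (fun h => ?_) fun M l n => ?_).2, ⟨e⟩⟩
  · have := card_GL23 ▸ Nat.card_congr e.toEquiv ▸ card_quotient_dvd_card (center (GL (Fin 2) (ZMod 23)))
    rw [h, card_top, j.hc] at this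
    exact absurd this (by norm_num)
  have hN := index_big j (p := 23) (n := 23 * 22) (by decide) oy (norm_le oy os (by decide)
    (in_norm sJ rs ry 5 (by decide +kernel)) (big j (by decide) oy).2 (l hy) (l hs))
  have SM := sup_le (zpowers_le.2 (l hs)) (zpowers_le.2 (l hw))
  rcases tabJ tA cA (by decide +kernel) le_rfl SY SM (by rw [cS]; exact cN)
    (sup_le (zpowers_le.2 (smul_pt rs (by decide +kernel))) (zpowers_le.2 (smul_pt rw' (by decide +kernel))))
    (allIn7 ⟨s, n1, rs⟩ ⟨w, n2, rw'⟩ ⟨p, in_norm sJ rp (sJ.pow rs 2) 5 (by decide +kernel), rp⟩ (pad _) (pad _) (pad _))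
    (allIn2 rs rw') (.cons ⟨s, l hs, rs⟩ (.cons ⟨y, l hy, ry⟩ (.cons ⟨w, l hw, rw'⟩ (allIn_nil _)))) with h | h
  · exact arith (P := fun k => (23 * 22 ∣ k ∧ k / (23 * 22) % 23 = 1) ∧ 12144 ∣ k ∧ ¬ 11 ^ (1 + 1) ∣ k ∧
      22 * 2 ∣ k ∧ k / (22 * 2) % 11 = 1) (by decide +kernel) n ⟨hN, low23.trans (card_dvd_of_le l),
      pin (zpowers_le.2 (pow_mem (l hs) 2)) (card_zp o11) (by rw [le_antisymm h (le_inf SM SY), cS]) (by norm_num)⟩
  · exact arith (P := fun k => (23 * 22 ∣ k ∧ k / (23 * 22) % 23 = 1) ∧ 31 ∣ k) (by decide +kernel) n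
      ⟨hN, h 0 (by decide)⟩

theorem Q_tree : allLt (treeAt oJ (nth TQ) [ku32, ku1, ku2, ku3, ku4] (nth PQ)) 32 = true := by decide +kernel
theorem Q_up : allLt (upAt oJ 32 (nth TQ) (fun _ => oJ.one) 1 [ku32, ku1, ku2, ku3, ku4] (nth HQ)) 32 = true := by
  decide +kernel
theorem Q_dist : allLt (distAt oJ (nth TQ)) 32 = true := by decide +kernel

theorem v_l32 : AllIn RJ2 ⊤ [ky31, ks2, ku32, kf] :=
  .cons i_ky31 (.cons i_ks2 (.cons i_ku32 (.cons i_kf (allIn_nil _))))

theorem card_l32 : Nat.card (grp RJ2 [ky31, ks2, ku32, kf]) = 163680 ∧ IsCoatom (grp RJ2 [ky31, ks2, ku32, kf]) := by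
  haveI : Fact (Nat.Prime 5) := ⟨by norm_num⟩
  haveI : Fact (Nat.Prime 31) := ⟨by norm_num⟩
  obtain ⟨U, j⟩ := jJ
  obtain ⟨y, -, ry⟩ := i_ky31
  obtain ⟨t, -, rt⟩ := i_ks2
  obtain ⟨u, -, ru⟩ := i_ku32
  obtain ⟨f, -, rf⟩ := i_kf
  obtain ⟨n, -, rn⟩ := i_kn5
  obtain ⟨c, -, rc⟩ := i_kc5a
  obtain ⟨d, -, rd⟩ := i_kc5b
  have hy := mem_grp (S := [ky31, ks2, ku32, kf]) (by simp) ry
  have ht := mem_grp (S := [ky31, ks2, ku32, kf]) (by simp) rt
  have hu := mem_grp (S := [ky31, ks2, ku32, kf]) (by simp) ru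
  have hf := mem_grp (S := [ky31, ks2, ku32, kf]) (by simp) rf
  have oy : orderOf y = 31 := ordP_spec sJ ry (L := [1, 1, 1, 1]) (by decide +kernel) (by decide +kernel)
  have ot : orderOf t = 2 := ordP_spec sJ rt (L := [0]) (by decide +kernel) (by decide +kernel)
  have of : orderOf f = 5 := ordP_spec sJ rf (L := [1, 0]) (by decide +kernel) (by decide +kernel)
  have rg : RJ2 (f * u * t) kg15 := sJ.tr (sJ.mul (sJ.mul rf ru) rt) (by decide +kernel)
  have og : orderOf (f * u * t) = 15 := sJ.orderOf_eq rg (fuel := 15) (by decide +kernel) (by decide)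
  have o10 : orderOf (f * t) = 10 := sJ.orderOf_eq (sJ.mul rf rt) (fuel := 10) (by decide +kernel) (by decide)
  have cS := card_sup_prime Nat.prime_two ot (in_norm sJ rt rg 11 (by decide +kernel)) (card_zp og)
    (not_mem_zp (not_cent sJ rt rg (by decide +kernel)))
  have tf := in_cent sJ rt rf (by decide +kernel)
  have SC := sup_le (zpowers_le.2 (in_cent sJ rg rf (by decide +kernel))) (zpowers_le.2 tf)
  exact maxJ (n := 163680) (ne_top_orb (S := [ky31, ks2, ku32, kf]) (n := 33) (q := o32) (by decide)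
    (by decide +kernel) (by decide +kernel)) fun M l hM => by
    have hN := index_big j (p := 31) (n := 31 * 10) (by decide) oy (norm_le oy o10 (by decide)
      (in_norm sJ (sJ.mul rf rt) ry 29 (by decide +kernel)) (big j (by decide) oy).2 (l hy) (l (mul_mem hf ht)))
    have SM := sup_le (zpowers_le.2 (l (mul_mem (mul_mem hf hu) ht))) (zpowers_le.2 (l ht))
    rcases tabJ tB cB (by decide +kernel) le_rfl (SC.trans (cent_le_norm f)) SM (by rw [cS, card_norm_5 mdJ of])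
      (sup_le (zpowers_le.2 (smul_pt rg (by decide +kernel))) (zpowers_le.2 (smul_pt rt (by decide +kernel))))
      (allIn7 ⟨f, le_normalizer (mem_zpowers f), rf⟩ ⟨n, in_norm sJ rn rf 2 (by decide +kernel), rn⟩
        ⟨c, in_norm sJ rc rf 1 (by decide +kernel), rc⟩ ⟨d, in_norm sJ rd rf 1 (by decide +kernel), rd⟩ (pad _) (pad _))
      (allIn2 rg rt) (v_l32.grp_self.mono l) with h | h
    · have b := (bs_of j.hc of (l hf) (fun d => mdJ.not25 (d.trans (card_subgroup_dvd_card M))) (h.trans SC)).1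
      rw [le_antisymm ((inf_le_inf_left M (cent_le_norm f)).trans h) (le_inf SM SC), cS] at b
      exact arith (P := fun k => (31 * 10 ∣ k ∧ k / (31 * 10) % 31 = 1) ∧ BS k 5 (15 * 2)) (by decide +kernel) hM
        ⟨hN, b⟩
    · exact arith (P := fun k => (31 * 10 ∣ k ∧ k / (31 * 10) % 31 = 1) ∧ 29 ∣ k) (by decide +kernel) hM
        ⟨hN, h 0 (by decide)⟩

theorem max_l32 : ∃ M : Subgroup J4, IsCoatom M ∧ ∃ (K : Subgroup M) (F : Type) (_ : Field F) (_ : Fintype F),
    Fintype.card F = 32 ∧ K.Normal ∧ K.index = 5 ∧ Nonempty (K ≃* Matrix.ProjectiveSpecialLinearGroup (Fin 2) F) := by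
  haveI : Fact (Nat.Prime 31) := ⟨by norm_num⟩
  obtain ⟨U, j⟩ := jJ
  obtain ⟨y, -, ry⟩ := i_ky31
  obtain ⟨t, -, rt⟩ := i_ks2
  obtain ⟨u, -, ru⟩ := i_ku32
  obtain ⟨f, -, rf⟩ := i_kf
  have hy := mem_grp (S := [ky31, ks2, ku32, kf]) (by simp) ry
  have ht := mem_grp (S := [ky31, ks2, ku32, kf]) (by simp) rt
  have hu := mem_grp (S := [ky31, ks2, ku32, kf]) (by simp) ru
  have hf := mem_grp (S := [ky31, ks2, ku32, kf]) (by simp) rf
  have oy : orderOf y = 31 := ordP_spec sJ ry (L := [1, 1, 1, 1]) (by decide +kernel) (by decide +kernel)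
  have ot : orderOf t = 2 := ordP_spec sJ rt (L := [0]) (by decide +kernel) (by decide +kernel)
  have of : orderOf f = 5 := ordP_spec sJ rf (L := [1, 0]) (by decide +kernel) (by decide +kernel)
  have tf := in_cent sJ rt rf (by decide +kernel)
  obtain ⟨cM, co⟩ := card_l32
  have vQ : AllIn RJ2 (grp RJ2 [ky31, ks2, ku32, kf]) [ku32, ku1, ku2, ku3, ku4] :=
    v_l32.grp_self.of_slpChk sJ (prog := [1, 131072, 262146, 65536, 4, 196608, 6, 327680, 8, 458752]) (by decide +kernel)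
  have QM := grp_le sJ vQ
  have DM := sup_le (zpowers_le.2 hy) (zpowers_le.2 hf)
  have BM := sup_le QM DM
  have en := Enum.list sJ vQ (by decide) (forall_of_allLt Q_tree) (forall_of_allLt Q_up)
    (Dist.of_distAt sJ (forall_of_allLt Q_dist))
  have cQ := en.card sJ
  have uQ := mem_grp (S := [ku32, ku1, ku2, ku3, ku4]) (by simp) ru
  obtain ⟨u', hu', ru'⟩ := vQ ku1 (by simp)
  have fy := in_norm sJ rf ry 2 (by decide +kernel)
  have cD := card_sup_cop (zpowers_le.2 fy) (card_zp oy) (card_zp of) (by decide)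
  have DQ := sup_le (zpowers_le.2 (norm_grp sJ ry (allIn_idx en.mem [2, 3, 4, 5, 8] (by decide)) (by decide +kernel)))
    (zpowers_le.2 (norm_grp sJ rf (allIn_idx en.mem [1, 3, 5, 12, 24] (by decide)) (by decide +kernel)))
  have cB := card_sup_cop DQ cQ cD (by decide)
  have fr := free_of en.cov (q := o32) (sup_le (grp_fix (S := [ku32, ku1, ku2, ku3, ku4]) (by decide +kernel))
    (sup_le (zpowers_le.2 (smul_pt ry (by decide +kernel))) (zpowers_le.2 (smul_pt rf (by decide +kernel))))) rt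
    (by decide +kernel)
  obtain ⟨L, nL, oL, F, _, _, ⟨k, hk⟩, ⟨e⟩⟩ := rank_one QM DM ht DQ
    (by rw [← pow_two, ← ot, pow_orderOf_eq_one])
    (normalizer_inf_normalizer_le_normalizer_sup _ _ ⟨in_norm sJ rt ry 30 (by decide +kernel), cent_le_norm f tf⟩) fr
    (by rw [cM, cB, cQ]) (by rw [cQ]; decide) (by rw [cD]; decide) (fun N hN hn => by
      have NQ : N ⊓ grp RJ2 [ku32, ku1, ku2, ku3, ku4] = ⊥ := eq_bot_iff.2 fun q hq =>
        fr q hq.2 (hN (H68.conj_mem_of_mem_normalizer' (hn ht) hq.1))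
      have nQ := hN.trans (sup_le le_normalizer DQ)
      have d := card_dvd_of_le (sup_le le_sup_left hN)
      rw [card_sup_of nQ NQ, cB, cQ, Nat.mul_dvd_mul_iff_left (by decide)] at d
      have nd : ¬ 31 ∣ Nat.card N := fun a => by
        have yN := mem_of_dvd (hN.trans BM) hn
          (by rw [cM]; norm_num) a hy oy
        have : y * u * y⁻¹ * u⁻¹ ∈ N ⊓ grp RJ2 [ku32, ku1, ku2, ku3, ku4] :=
          ⟨by rw [mul_assoc, mul_assoc, ← mul_assoc u]; exact mul_mem yN (conj_mem_of_norm (hn hu) (inv_mem yN)),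
            Subgroup.mul_mem _ (conj_mem_of_norm (nQ yN) uQ) (Subgroup.inv_mem _ uQ)⟩
        rw [NQ, mem_bot, mul_inv_eq_one, mul_inv_eq_iff_eq_mul] at this
        exact not_cent sJ ry ru (by decide +kernel) (mem_cent.2 this)
      exact card_eq_one.1 ((by decide +kernel : ∀ k ∈ Nat.divisors (31 * 5), ¬ 31 ∣ k → BS k 31 1 → k = 1) _
        (Nat.mem_divisors.2 ⟨d, by decide⟩) nd
        (bs_one j.hc oy (hn hy) (inf_le_right.trans (big j (n := 31 * 10) (by decide) oy).1.le) nd)))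
    hu hu' (sJ.ne_of ru sJ.one (by decide +kernel)) (sJ.ne_of ru' sJ.one (by decide +kernel))
    (sJ.ne_of ru ru' (by decide +kernel)) ((sJ.isOne_iff (sJ.mul ru ru)).1 (by decide +kernel))
    ((sJ.isOne_iff (sJ.mul ru' ru')).1 (by decide +kernel)) ((sJ.comm_iff ru ru').1 (by decide +kernel))
    (by rw [cM]; norm_num)
  have e1 := L.card_mul_index
  have e2 := H10.card_PSL_two (F := F)
  rw [← Nat.card_congr e.toEquiv, Nat.card_eq_fintype_card (α := F), hk] at e2
  rw [cM] at e1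
  have k6 : k < 6 := by
    by_contra a
    have h1 : 2 ^ 6 ∣ Nat.gcd 2 (2 ^ k - 1) * Nat.card L :=
      e2 ▸ ((pow_dvd_pow 2 (by omega)).mul_right _).mul_right _
    rw [(Nat.coprime_two_left.2 (Nat.Even.sub_odd Nat.one_le_two_pow (Nat.even_pow.2 ⟨even_two, by omega⟩) odd_one)),
      one_mul] at h1
    exact absurd (e1 ▸ h1.mul_right L.index) (by norm_num)
  obtain ⟨i, hi⟩ := oL
  have : k = 5 ∧ L.index = 5 := by
    rw [hi] at e1 ⊢
    interval_cases k <;> norm_num at e2 <;> (try rw [e2] at e1) <;> omega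
  exact ⟨_, co, L, F, _, _, by rw [hk, this.1]; rfl, nL, this.2, ⟨e⟩⟩

end H74.J4N
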