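import Cfsg.Agent.Lib.J4N.Base
import Cfsg.Agent.Lib.J4.PGL

/-! The tables of overgroups are checked. -/

set_option autoImplicit false
set_option maxRecDepth 100000
set_option Elab.async false

namespace H74.J4N
open H54 hiding bnot bnot_eq_true In grp Enum Good c24
open H66.Vec H66.J4 H15.Mdl H74.J4C H74.J4M

/-- the generators of the projective group -/
noncomputable def kP (i : ℕ) : ℕ := nth (q3_S.map (· >>> 80)) i

theorem tA : tabChk 55 qA iA [k1, kP 1, kP 3, kp23, k1, k1, k1] [k1, kP 1, kP 3, k1, k1, k1, k1]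
    UA XA (CA.map (·.1)) WA VA = true := by decide +kernel
theorem cA : allL (certAt qA iA [k1, kP 1, kP 3, kp23, k1, k1, k1] [kP 1, kP 2, kP 3]
    [[1, 1, 1, 1]]) CA = true := by decide +kernel
theorem tB : tabChk 896 qB iB [k1, kf, kn5, kc5a, kc5b, k1, k1] [k1, kg15, ks2, k1, k1, k1, k1]
    UB XB (CB.map (·.1)) WB VB = true := by decide +kernel
theorem cB : allL (certAt qB iB [k1, kf, kn5, kc5a, kc5b, k1, k1] [ky31, ks2, ku32, kf]
    [[1, 0, 1, 1]]) CB = true := by decide +kernel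
theorem tC : tabChk 22 qC iC [k1, kx, ka11, kf, ks2, nth LQ 12, k1] [k1, ka11, kfz, k1, k1, k1, k1]
    UC XC (CC.map (·.1)) WC VC = true := by decide +kernel
theorem cC : allL (certAt qC iC [k1, kx, ka11, kf, ks2, nth LQ 12, k1] [ka11, ka2, nth LQ 12]
    [[1, 0, 1, 1], [1, 1, 1, 1]]) CC = true := by decide +kernel
theorem tD : tabChk 60 qD iD [k1, km7, kn6, kp7m, k1, k1, k1] [k1, km7, kn6, k1, k1, k1, k1]
    UD XD (CD.map (·.1)) WD VD = true := by decide +kernel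
theorem cD : allL (certAt qD iD [k1, km7, kn6, kp7m, k1, k1, k1] [ka11, ka2, nth LQ 12]
    [[1, 0, 1, 1], [1, 1, 1, 1]]) CD = true := by decide +kernel
theorem tE : tabChk 320 qE iE [k1, ky, kf, kc1, kc2, kn, ksp] [k1, ky, kn, k1, k1, k1, k1]
    UE XE (CE.map (·.1)) WE VE = true := by decide +kernel
theorem cE0 : allL (certAt qE iE [k1, ky, kf, kc1, kc2, kn, ksp] [ky, kn, ke3]
    [[1, 0, 1, 1], [1, 1, 1, 1]]) CE0 = true := by decide +kernel
theorem cE1 : allL (certAt qE iE [k1, ky, kf, kc1, kc2, kn, ksp] [ky, kn, ke3]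
    [[1, 0, 1, 1], [1, 1, 1, 1]]) CE1 = true := by decide +kernel
theorem cE2 : allL (certAt qE iE [k1, ky, kf, kc1, kc2, kn, ksp] [ky, kn, ke3]
    [[1, 0, 1, 1], [1, 1, 1, 1]]) CE2 = true := by decide +kernel
theorem cE3 : allL (certAt qE iE [k1, ky, kf, kc1, kc2, kn, ksp] [ky, kn, ke3]
    [[1, 0, 1, 1], [1, 1, 1, 1]]) CE3 = true := by decide +kernel
theorem cE4 : allL (certAt qE iE [k1, ky, kf, kc1, kc2, kn, ksp] [ky, kn, ke3]
    [[1, 0, 1, 1], [1, 1, 1, 1]]) CE4 = true := by decide +kernel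
theorem cE5 : allL (certAt qE iE [k1, ky, kf, kc1, kc2, kn, ksp] [ky, kn, ke3]
    [[1, 0, 1, 1], [1, 1, 1, 1]]) CE5 = true := by decide +kernel
theorem cE6 : allL (certAt qE iE [k1, ky, kf, kc1, kc2, kn, ksp] [ky, kn, ke3]
    [[1, 0, 1, 1], [1, 1, 1, 1]]) CE6 = true := by decide +kernel
theorem cE7 : allL (certAt qE iE [k1, ky, kf, kc1, kc2, kn, ksp] [ky, kn, ke3]
    [[1, 0, 1, 1], [1, 1, 1, 1]]) CE7 = true := by decide +kernel
theorem cE8 : allL (certAt qE iE [k1, ky, kf, kc1, kc2, kn, ksp] [ky, kn, ke3]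
    [[1, 0, 1, 1], [1, 1, 1, 1]]) CE8 = true := by decide +kernel
theorem cE9 : allL (certAt qE iE [k1, ky, kf, kc1, kc2, kn, ksp] [ky, kn, ke3]
    [[1, 0, 1, 1], [1, 1, 1, 1]]) CE9 = true := by decide +kernel
theorem cE : allL (certAt qE iE [k1, ky, kf, kc1, kc2, kn, ksp] [ky, kn, ke3]
    [[1, 0, 1, 1], [1, 1, 1, 1]]) CE = true :=
  allL_append cE0 (allL_append cE1 (allL_append cE2 (allL_append cE3 (allL_append cE4 (allL_append cE5 (allL_append cE6 (allL_append cE7 (allL_append cE8 (cE9)))))))))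
theorem tF : tabChk 120 qF iF [k1, kw7, ka3, kp7x, k1, k1, k1] [k1, kw7, ka3, k1, k1, k1, k1]
    UF XF (CF.map (·.1)) WF VF = true := by decide +kernel
theorem cF : allL (certAt qF iF [k1, kw7, ka3, kp7x, k1, k1, k1] [ky, kn, ke3]
    [[1, 0, 1, 1], [1, 1, 1, 1]]) CF = true := by decide +kernel

theorem eqns_Tab : True := by
  have := @kP.eq_1
  trivial

end H74.J4N
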