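import Cfsg.Agent.Lib.J4N.Base
import Cfsg.Agent.Lib.Inv73.Transfer

/-! The maximal subgroup `U₃(11) : 2` of the fourth Janko group. -/

set_option autoImplicit false
set_option maxRecDepth 100000
set_option Elab.async false

namespace H74.J4N
open H54 hiding bnot bnot_eq_true In grp Enum Good c24 grp_le
open H66.Vec H66.J4 Cfsg Cfsg.Spor H15.Mdl H75.J4 H74.J4C H74.J4M Subgroup

theorem S_tree : allLt (treeAt oJ (nth TS) [ky, kn, ks4] (nth PS)) 32 = true := by decide +kernel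
theorem S_up : allLt (upAt oJ 32 (nth TS) (fun _ => oJ.one) 1 [ky, kn, ks4] (nth HS)) 32 = true := by decide +kernel
theorem S_dist : allLt (distAt oJ (nth TS)) 32 = true := by decide +kernel

theorem enS : Enum RJ2 (grp RJ2 [ky, kn, ks4]) 32 (nth TS) :=
  Enum.list sJ (AllIn.cons i_ky (.cons i_kn (.cons i_ks4 (allIn_nil _)))) (by decide) (forall_of_allLt S_tree)
    (forall_of_allLt S_up) (Dist.of_distAt sJ (forall_of_allLt S_dist))

theorem invS {g : J4} (hg : g ∈ grp RJ2 [ky, kn, ks4]) (o : orderOf g = 2) : IsConj g mdJ.z :=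
  isConj_of_list sJ enS.cov ((AllIn.cons i_ky (.cons i_kn (.cons i_ke3 (allIn_nil _)))).of_wordsChk sJ
    [[2, 1, 0, 2, 1, 0, 2, 0], [2, 1, 0, 2, 1, 0, 2, 1, 0], [], [2, 1, 0, 2, 1, 0, 2, 1], [2, 0, 2, 0, 1, 2, 0],
      [2, 0, 2, 0, 1, 2], [2, 1, 0, 2, 1, 0, 2]] kI (by decide +kernel)) rz (Q := fun q => Nat.beq (oJ.ord 2 q) 2)
    (by decide +kernel) g hg fun q r => by rw [sJ.ord_eq r (by omega) o.le, o]; rfl

theorem v11 : AllIn RJ2 (grp RJ2 [ka11, ky, kf, kn, ksp]) [ka11, ky, kf, kn, ksp] :=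
  (AllIn.cons i_ka11 (.cons i_ky (.cons i_kf (.cons i_kn (.cons i_ksp (allIn_nil _)))))).grp_self

theorem U_le {U : Subgroup J4} (j : J11 mdJ (mdJ.u * mdJ.z) U) : U ≤ grp RJ2 [ka11, ky, kf, kn, ksp] := by
  haveI : Fact (Nat.Prime 11) := ⟨by norm_num⟩
  obtain ⟨a, ha, ra⟩ := v11 ka11 (by simp)
  obtain ⟨b, hb, rb⟩ := v11.of_wordsChk sJ [[1, 0, 1, 1, 1, 1, 1, 1, 1]] [kb11] (by decide +kernel) kb11 (by simp)
  exact le_of_noncomm (U_main j.h j.h11 j.o j.hc).1 ⟨ha, memU j ra (by decide +kernel)⟩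
    ⟨hb, memU j rb (by decide +kernel)⟩ fun e => not_cent sJ ra rb (by decide +kernel) (mem_cent.2 e)

theorem card_u11 : Nat.card (grp RJ2 [ka11, ky, kf, kn, ksp]) = 141831360 ∧
    IsCoatom (grp RJ2 [ka11, ky, kf, kn, ksp]) := by
  obtain ⟨U, j⟩ := jJ
  obtain ⟨y, hy, ry⟩ := v11 ky (by simp)
  obtain ⟨f, hf, rf⟩ := v11 kf (by simp)
  obtain ⟨s, hs, rs⟩ := v11 ksp (by simp)
  obtain ⟨w, hw, rw'⟩ := In.word sJ v11 [0, 1, 3] (by decide)
  have e := norm_U j.h j.h11 j.o j.hc j.hP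
  have cN := card_norm_U j.h j.h11 j.o j.hc j.hP
  have ow : orderOf w = 37 := ordP_spec sJ rw' (L := [1, 0, 1, 0, 0]) (by decide +kernel) (by decide +kernel)
  have of : orderOf f = 5 := ordP_spec sJ rf (L := [1, 0]) (by decide +kernel) (by decide +kernel)
  obtain ⟨cU, eU⟩ := U_main j.h j.h11 j.o j.hc
  have c16 := card_sup_prime Nat.prime_two (ordP_spec sJ rs (L := [0]) (by decide +kernel) (by decide +kernel))
    (in_norm sJ rs ry 3 (by decide +kernel))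
    (card_zp (sJ.orderOf_eq ry (fuel := 8) (n := 8) (by decide +kernel) (by decide)))
    (not_mem_zp (not_cent sJ rs ry (by decide +kernel)))
  refine maxJ (ne_top_orb (n := 1) (q := o11) (by decide) (by decide +kernel) (by decide +kernel)) fun M l n => ?_
  have UN := le_inf ((U_le j).trans l) le_normalizer
  obtain ⟨r, hr, e1⟩ := ti_count inf_le_left UN fun g hg p hp p1 h => ⟨hg, ti j hp p1
    (mem_of_card le_normalizer le_rfl (a := 240) (by rw [cN, cU]; rfl) h.2 (by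
      rw [H9.orderOf_conj, orderOf_eq_prime (eU p hp) p1]; norm_num))⟩
  rw [cU] at hr
  have d1 : 11 ^ 3 * (8 * 2 * 5) ∣ Nat.card ↥(M ⊓ normalizer (U : Set J4)) :=
    Nat.Coprime.mul_dvd_of_dvd_of_dvd (by norm_num) (cU ▸ card_dvd_of_le UN)
      (Nat.Coprime.mul_dvd_of_dvd_of_dvd (by norm_num) (c16 ▸ card_dvd_of_le (sup_le
        (zpowers_le.2 ⟨l hy, e ▸ in_norm sJ ry rx 10 (by decide +kernel)⟩)
        (zpowers_le.2 ⟨l hs, e ▸ in_norm sJ rs rx 10 (by decide +kernel)⟩)))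
      (of ▸ orderOf_dvd_card_of_mem ⟨l hf, e ▸ in_norm sJ rf rx 3 (by decide +kernel)⟩))
  obtain ⟨t, ht⟩ := d1
  have d2 : t ∣ 3 := Nat.dvd_of_mul_dvd_mul_left (k := 11 ^ 3 * (8 * 2 * 5)) (by norm_num)
    (ht ▸ (card_dvd_of_le inf_le_right).trans cN.dvd)
  exact arith (P := fun k => 37 ∣ k ∧ ∃ t ∈ [1, 3], 11 ^ 3 * (8 * 2 * 5) * t ∣ k ∧
    k / (11 ^ 3 * (8 * 2 * 5) * t) % 11 ^ 3 = 1) (by decide +kernel) n
    ⟨ow ▸ orderOf_dvd_card_of_mem (l hw),
      t, by simpa using (Nat.dvd_prime Nat.prime_three).1 d2, div_of (by norm_num) Nat.card_pos hr (ht ▸ e1)⟩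

theorem half_u11 : ∃ N : Subgroup (grp RJ2 [ka11, ky, kf, kn, ksp]), N.Normal ∧ N.index = 2 := by
  obtain ⟨U, j⟩ := jJ
  obtain ⟨s, hs, rs⟩ := v11 ksp (by simp)
  obtain ⟨c, -, rc⟩ := (In.word sJ allIn_LA [23, 22, 4, 24, 3, 12, 0] (by decide)).mul sJ i_kcb
  have os : orderOf s = 2 := ordP_spec sJ rs (L := [0]) (by decide +kernel) (by decide +kernel)
  have nc : ∀ g : J4, g * s * g⁻¹ ∉ grp RJ2 [ky, kn, ks4] := fun g h => mdJ.not_conj_b
    ((invS h (by rw [H9.orderOf_conj, os])).symm.trans ((isConj_iff.2 ⟨g, rfl⟩).symm.trans (isConj_iff.2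
      ⟨c, mul_inv_eq_iff_eq_mul.2 ((sJ.cj_iff rc rs (r_s 180)).1 (by decide +kernel))⟩)))
  have cS := enS.card sJ
  have cT := card_sup_prime Nat.prime_two os (norm_grp sJ rs (allIn_idx enS.mem [12, 2, 25] (by decide))
    (by decide +kernel)) cS (by simpa using nc 1)
  have SM : grp RJ2 [ky, kn, ks4] ≤ grp RJ2 [ka11, ky, kf, kn, ksp] := grp_le sJ
    ((AllIn.cons ⟨_, U_le j j.o.mem, rx⟩ v11).of_wordsChk sJ [[2], [4], [3, 2, 3, 2, 0, 4, 0, 0]] _ (by decide +kernel))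
  have TM := sup_le SM (zpowers_le.2 hs)
  have i1 := H1.card_mul_relIndex_of_le TM
  have i2 := H1.card_mul_relIndex_of_le (le_sup_left : grp RJ2 [ky, kn, ks4] ≤ _ ⊔ zpowers s)
  rw [cT, card_u11.1] at i1
  rw [cT, cS] at i2
  obtain ⟨N, n, i, -⟩ := H73.thompson_transfer ((grp RJ2 [ky, kn, ks4] ⊔ zpowers s).subgroupOf _)
    ((grp RJ2 [ky, kn, ks4]).subgroupOf _) (show Odd (relIndex _ _) from ⟨1108057, by omega⟩)
    (by rw [relIndex_subgroupOf TM]; omega) (⟨s, hs⟩ : grp RJ2 [ka11, ky, kf, kn, ksp])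
    ((orderOf_coe _).symm.trans os) fun g => nc g
  exact ⟨N, n, i⟩

theorem max_u11 : ∃ M : Subgroup J4, IsCoatom M ∧ ∃ (K : Subgroup M) (F : Type) (_ : Field F) (_ : Fintype F),
    Fintype.card F = 121 ∧ K.Normal ∧ K.index = 2 ∧ Nonempty (K ≃* PSU 3 F 11) := by
  haveI : Fact (Nat.Prime 37) := ⟨by norm_num⟩
  obtain ⟨U, j⟩ := jJ
  obtain ⟨cM, co⟩ := card_u11
  obtain ⟨L, nL, iL⟩ := half_u11
  obtain ⟨a, ha, ra⟩ := v11 ka11 (by simp)
  obtain ⟨y, hy, ry⟩ := v11 ky (by simp)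
  obtain ⟨f, hf, rf⟩ := v11 kf (by simp)
  obtain ⟨n, hn, rn⟩ := v11 kn (by simp)
  obtain ⟨b, hb, rb⟩ := v11.of_wordsChk sJ [[1, 0, 1, 1, 1, 1, 1, 1, 1]] [kb11] (by decide +kernel) kb11 (by simp)
  obtain ⟨w, hw, rw'⟩ := In.word sJ v11 [0, 1, 3] (by decide)
  have ow : orderOf w = 37 := ordP_spec sJ rw' (L := [1, 0, 1, 0, 0]) (by decide +kernel) (by decide +kernel)
  have e := norm_U j.h j.h11 j.o j.hc j.hP
  obtain ⟨cU, eU⟩ := U_main j.h j.h11 j.o j.hc
  have e0 := L.equivMapOfInjective _ (grp RJ2 [ka11, ky, kf, kn, ksp]).subtype_injective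
  have KM := map_subtype_le L
  have nK := norm_map L
  have cK := L.card_mul_index
  rw [Nat.card_congr e0.toEquiv, cM, iL] at cK
  generalize L.map (grp RJ2 [ka11, ky, kf, kn, ksp]).subtype = K at e0 KM nK cK
  replace cK : Nat.card K = 70915680 := by omega
  have od : ∀ {g : J4} {k : ℕ}, g ∈ grp RJ2 [ka11, ky, kf, kn, ksp] → orderOf g = k → k.Coprime 2 → g ∈ K :=
    fun h o c => mem_of_card KM nK (a := 2) (by rw [cM, cK]) h (o ▸ c)
  have UK : U ≤ K := fun u hu => od (U_le j hu) rfl (Nat.Coprime.coprime_dvd_left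
    (orderOf_dvd_of_pow_eq_one (eU u hu)) (by norm_num))
  have nK' : n ∈ K := (mul_mem_cancel_right (UK (memU j rb (by decide +kernel)))).1 (od (mul_mem hn hb)
    (ordP_spec sJ (sJ.mul rn rb) (L := [1, 0]) (by decide +kernel) (by decide +kernel)) (by decide))
  have yK : y ∈ K := (mul_mem_cancel_right (mul_mem (UK (memU j ra (by decide +kernel))) nK')).1
    (od (mul_mem hy (mul_mem ha hn)) (ordP_spec sJ (sJ.mul ry (sJ.mul ra rn)) (L := [1, 0]) (by decide +kernel)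
      (by decide +kernel)) (by decide))
  have fK : f ∈ K := od hf (ordP_spec sJ rf (L := [1, 0]) (by decide +kernel) (by decide +kernel)) (by decide)
  have wK : w ∈ K := od hw ow (by decide)
  obtain ⟨cw, cn⟩ := big j (n := 37 * 12) (by decide) ow
  haveI : IsSimpleGroup K := simple_of (fun e => by rw [e, card_bot] at cK; omega) fun N hN hn => by
    have dN := cK ▸ card_dvd_of_le hN
    by_cases d : 37 ∣ Nat.card N
    · have := frat hN hn (by rw [cK]; norm_num) ow (mem_of_dvd hN hn (by rw [cK]; norm_num) d wK ow)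
      exact Or.inr (eq_of_le_of_card_ge hN (cK.trans (arith (P := fun k => k ∣ 70915680 ∧ 70915680 * 37 ∣ 37 * 12 * k)
        (by decide +kernel) (fun t => co.1 (eq_top_iff.2 (t.ge.trans (hN.trans KM)))) ⟨dN, cK ▸ this.trans
          (Nat.mul_dvd_mul_right (cn ▸ card_dvd_of_le inf_le_right) _)⟩).symm).le)
    · exact Or.inl (card_eq_one.1 (of_decide_eq_true (allJ (P := fun k => decide (k ∣ 70915680 → ¬ 37 ∣ k → BS k 37 1 →
        k = 1)) (by decide +kernel) (dvd_J j N)) dN d (bs_one j.hc ow (hn wK) (inf_le_right.trans cw.le) d)))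
  have n2 : n * n = 1 := (sJ.isOne_iff (sJ.mul rn rn)).1 (by decide +kernel)
  obtain ⟨F, _, _, hF, ⟨e1⟩⟩ := onan (p := 11) (d := 3) (e := 40) (by norm_num) (by norm_num) UK (mul_mem fK yK) nK'
    (e ▸ mul_mem (in_norm sJ rf rx 3 (by decide +kernel)) (in_norm sJ ry rx 10 (by decide +kernel))) n2
    (in_norm sJ rn (sJ.mul rf ry) 29 (by decide +kernel)) (fun u hu h => by_contra fun u1 => by
      have := conj_mem_of_norm (inv_mem (e ▸ ti j (g := n⁻¹) hu u1 (by rwa [inv_inv]))) (mem_zpowers _)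
      rw [inv_inv, inv_eq_of_mul_eq_one_right n2] at this
      exact not_mem_zp (not_cent sJ (sJ.mul (sJ.mul rn rx) rn) rx (by decide +kernel)) this) cU
    (sJ.orderOf_eq (sJ.mul rf ry) (fuel := 40) (by decide +kernel) (by decide)) (by decide) (by norm_num)
    (by rw [cK]; norm_num)
  exact ⟨_, co, L, F, _, _, hF, nL, iL, ⟨e0.trans e1⟩⟩

end H74.J4N
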