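import Cfsg.Agent.Lib.J4N.Tab
import Cfsg.Agent.Lib.J4N.Cy
import Cfsg.Agent.Lib.J4N.U11

/-! The maximal subgroup `U₃(3)` of the fourth Janko group. -/

set_option autoImplicit false
set_option maxRecDepth 100000
set_option Elab.async false

namespace H74.J4N
open H54 hiding bnot bnot_eq_true In grp Enum Good c24 grp_le
open H66.Vec H66.J4 Cfsg Cfsg.Spor H15.Mdl H75.J4 H74.J4C H74.J4M Subgroup

theorem R_tree : allLt (treeAt oJ (nth TR) [ka3, kb3] (nth PR)) 27 = true := by decide +kernel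
theorem R_up : allLt (upAt oJ 27 (nth TR) (fun _ => oJ.one) 1 [ka3, kb3] (nth HR)) 27 = true := by decide +kernel
theorem R_dist : allLt (distAt oJ (nth TR)) 27 = true := by decide +kernel

theorem v33 : AllIn RJ2 (grp RJ2 [ky, kn, ke3]) [ky, kn, ke3] :=
  (AllIn.cons i_ky (.cons i_kn (.cons i_ke3 (allIn_nil _)))).grp_self

theorem wR : AllIn RJ2 (grp RJ2 [ky, kn, ke3]) [ka3, kb3] :=
  v33.of_wordsChk sJ [[2, 0, 0, 0, 0, 2, 0, 0, 0, 0], [0, 2, 0, 0, 0, 0, 2, 0, 0, 0]] _ (by decide +kernel)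

theorem wS : AllIn RJ2 (grp RJ2 [ky, kn, ke3]) [ky, kn, ks4] :=
  v33.of_wordsChk sJ [[0], [1], [0, 2, 1, 0, 2, 0, 0, 0, 2, 1, 0, 0, 2]] _ (by decide +kernel)

theorem w7 : In RJ2 (grp RJ2 [ky, kn, ke3]) kw7 :=
  (In.word sJ v33 [1, 0, 1, 2, 1, 0, 0, 0, 2, 0] (by decide)).tr sJ (by decide +kernel)

theorem enR : Enum RJ2 (grp RJ2 [ka3, kb3]) 27 (nth TR) :=
  Enum.list sJ wR (by decide) (forall_of_allLt R_tree) (forall_of_allLt R_up) (Dist.of_distAt sJ (forall_of_allLt R_dist))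

theorem frR {n : J4} (rn : RJ2 n kn) : ∀ u ∈ grp RJ2 [ka3, kb3], n⁻¹ * u * n ∈ grp RJ2 [ka3, kb3] → u = 1 :=
  free_of enR.cov (q := oR) (grp_fix (by decide +kernel)) rn (by decide +kernel)

theorem card_NR : Nat.card (normalizer (grp RJ2 [ka3, kb3] : Set J4)) = 864 := by
  haveI : Fact (Nat.Prime 3) := ⟨by norm_num⟩
  obtain ⟨U, j⟩ := jJ
  obtain ⟨P, e⟩ := exists_sylow_eq (k := 3) Nat.prime_three (enR.card sJ) (by rw [j.hc]; norm_num)
  obtain ⟨R, -, -, c⟩ := mdJ.exists_sylow3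
  have h1 := (normalizer (P : Set J4)).index_mul_card
  rw [← P.card_eq_index_normalizer, R.card_eq_index_normalizer, ← (normalizer (R : Set J4)).index_mul_card] at h1
  rw [← e, ← c]
  exact Nat.eq_of_mul_eq_mul_left (Nat.pos_of_ne_zero index_ne_zero_of_finite) h1

variable {M : Subgroup J4} (l : grp RJ2 [ky, kn, ke3] ≤ M) (hM : M ≠ ⊤)
include l hM

theorem tab7 {w a : J4} (rw' : RJ2 w kw7) (ra : RJ2 a ka3) : Nat.card ↥(zpowers w ⊔ zpowers a) = 7 * 3 ∧
    M ⊓ normalizer (zpowers w : Set J4) = zpowers w ⊔ zpowers a := by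
  obtain ⟨p, -, rp⟩ := i_kp7x
  have ow : orderOf w = 7 := ordP_spec sJ rw' (L := [1, 1]) (by decide +kernel) (by decide +kernel)
  have aw := in_norm sJ ra rw' 2 (by decide +kernel)
  have c := card_sup_cop (b := 3) (zpowers_le.2 aw) (card_zp ow)
    (card_zp (ordP_spec sJ ra (L := [1]) (by decide +kernel) (by decide +kernel))) (by decide)
  have SY := sup_le le_normalizer (zpowers_le.2 aw)
  have SM := sup_le (zpowers_le.2 (l (w7.mem sJ rw'))) (zpowers_le.2 (l ((wR ka3 (by simp)).mem sJ ra)))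
  exact ⟨c, le_antisymm ((tabJ tF cF (by decide +kernel) le_rfl SY SM (by rw [c, card_norm_7 mdJ ow])
    (sup_le (zpowers_le.2 (smul_pt rw' (by decide +kernel))) (zpowers_le.2 (smul_pt ra (by decide +kernel))))
    (allIn7 ⟨w, le_normalizer (mem_zpowers w), rw'⟩ ⟨a, aw, ra⟩ ⟨p, in_norm sJ rp rw' 1 (by decide +kernel), rp⟩
      (pad _) (pad _) (pad _))
    (allIn2 rw' ra) (v33.mono l)).resolve_right (not7 hM (ow ▸ orderOf_dvd_card_of_mem (l (w7.mem sJ rw')))))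
    (le_inf SM SY)⟩

theorem tab8 {y n : J4} (ry : RJ2 y ky) (rn : RJ2 n kn) :
    M ⊓ normalizer (zpowers y : Set J4) ≤ zpowers y ⊔ zpowers n ∧ M ⊓ centralizer {y} ≤ zpowers y := by
  obtain ⟨w, hw, rw'⟩ := w7
  obtain ⟨f, -, rf⟩ := i_kf
  obtain ⟨c, -, rc⟩ := i_kc1
  obtain ⟨d, -, rd⟩ := i_kc2
  obtain ⟨s, -, rs⟩ := i_ksp
  have ow : orderOf w = 7 := ordP_spec sJ rw' (L := [1, 1]) (by decide +kernel) (by decide +kernel)
  have on : orderOf n = 2 := ordP_spec sJ rn (L := [0]) (by decide +kernel) (by decide +kernel)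
  have ny := in_norm sJ rn ry 5 (by decide +kernel)
  have nc := not_cent sJ rn ry (by decide +kernel)
  have c16 := card_sup_prime Nat.prime_two on ny (card_zp (pow_ky ry).1) (not_mem_zp nc)
  have t := (tabJ tE cE (by decide +kernel) le_rfl (sup_le le_normalizer (zpowers_le.2 ny))
    (sup_le (zpowers_le.2 (l (mem_grp (by simp) ry))) (zpowers_le.2 (l (mem_grp (by simp) rn))))
    (by rw [c16]; exact card_Ny ry)
    (sup_le (zpowers_le.2 (smul_pt ry (by decide +kernel))) (zpowers_le.2 (smul_pt rn (by decide +kernel))))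
    (allIn7 ⟨y, le_normalizer (mem_zpowers y), ry⟩ ⟨f, in_norm sJ rf ry 1 (by decide +kernel), rf⟩
      ⟨c, in_norm sJ rc ry 1 (by decide +kernel), rc⟩ ⟨d, in_norm sJ rd ry 1 (by decide +kernel), rd⟩ ⟨n, ny, rn⟩
      ⟨s, in_norm sJ rs ry 3 (by decide +kernel), rs⟩)
    (allIn2 ry rn) (v33.mono l)).resolve_right (not7 hM (ow ▸ orderOf_dvd_card_of_mem (l hw)))
  exact ⟨t, (le_inf inf_le_right ((inf_le_inf_left _ (cent_le_norm y)).trans t)).trans
    (cent_two ny (zp_inf_bot Nat.prime_two on nc)).le⟩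

theorem normS : M ⊓ normalizer (grp RJ2 [ky, kn, ks4] : Set J4) ≤ grp RJ2 [ky, kn, ks4] := by
  obtain ⟨y, hy, ry⟩ := wS.grp_self ky (by simp)
  obtain ⟨n, hn, rn⟩ := wS.grp_self kn (by simp)
  obtain ⟨s, hs, rs⟩ := wS.grp_self ks4 (by simp)
  obtain ⟨v, -, rv⟩ := enS.mem.2 24 (by decide)
  obtain ⟨t1, t2⟩ := tab8 l hM ry rn
  have SM := (grp_le sJ wS).trans l
  have k : ∀ g ∈ M, g * y * g⁻¹ ∈ centralizer {y} → g ∈ grp RJ2 [ky, kn, ks4] := fun g hg h =>
    sup_le (zpowers_le.2 hy) (zpowers_le.2 hn) (t1 ⟨hg, H68.mem_normalizer_of_cj_le (by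
      rw [H68.cj, MonoidHom.map_zpowers, zpowers_le]
      exact t2 ⟨M.mul_mem (M.mul_mem hg (SM hy)) (M.inv_mem hg), h⟩)⟩)
  intro g hg
  obtain ⟨q, rq, e⟩ := enS.cov.forall (P := fun q => bor (oJ.isOne (oJ.pow q 4)) (bor (oJ.comm q ky)
    (oJ.comm q (nth TS 24)))) (by decide +kernel) _ (conj_mem_of_norm hg.2 hy)
  rw [bor_eq_true, bor_eq_true] at e
  rcases e with e | e | e
  · have := orderOf_dvd_of_pow_eq_one ((sJ.isOne_iff (sJ.pow rq 4)).1 e)
    rw [H9.orderOf_conj, (pow_ky ry).1] at this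
    exact absurd this (by decide)
  · exact k g hg.1 (in_cent sJ rq ry e)
  · have e1 := (sJ.comm_iff rq rv).1 e
    have e2 := mul_inv_eq_iff_eq_mul.2 ((sJ.cj_iff rs rv ry).1 (by decide +kernel))
    refine (mul_mem_cancel_left hs).1 (k _ (mul_mem (SM hs) hg.1) (mem_cent.2 ?_))
    calc _ = s * (g * y * g⁻¹ * v) * s⁻¹ := by rw [← e2]; group
      _ = _ := by rw [e1, ← e2]; group

theorem normR : Nat.card ↥(M ⊓ normalizer (grp RJ2 [ka3, kb3] : Set J4)) = 27 * 8 := by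
  haveI : Fact (Nat.Prime 2) := ⟨by norm_num⟩
  obtain ⟨y, hy, ry⟩ := v33 ky (by simp)
  obtain ⟨n, hn, rn⟩ := v33 kn (by simp)
  obtain ⟨a, ha, ra⟩ := wR.grp_self ka3 (by simp)
  have oy := (pow_ky ry).1
  have yR := norm_grp sJ ry (allIn_idx enR.mem [2, 11] (by decide)) (by decide +kernel)
  have d1 := card_sup_cop (zpowers_le.2 yR) (enR.card sJ) (card_zp oy) (by decide) ▸ card_dvd_of_le
    (sup_le (le_inf ((grp_le sJ wR).trans l) le_normalizer) (zpowers_le.2 ⟨l hy, yR⟩))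
  have d2 := card_NR ▸ card_dvd_of_le (inf_le_right : M ⊓ normalizer (grp RJ2 [ka3, kb3] : Set J4) ≤ _)
  have d3 := (pin (p := 2) (k := 3) (c := 8) (zpowers_le.2 (show y ∈ M ⊓ normalizer (grp RJ2 [ka3, kb3] : Set J4) from
    ⟨l hy, yR⟩)) (card_zp oy) (by
      rw [← card_zp oy]
      refine congrArg (fun H : Subgroup J4 => Nat.card H) (le_antisymm (fun g hg => ?_)
        (le_inf (zpowers_le.2 ⟨l hy, yR⟩) le_normalizer))
      have := H68.inf_sup_of_le_normalizer' (zpowers_le.2 (in_norm sJ rn ry 5 (by decide +kernel))) (zpowers_le.2 yR)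
      rw [inf_comm _ (zpowers n), zp_inf_bot Nat.prime_two (ordP_spec sJ rn (L := [0]) (by decide +kernel)
        (by decide +kernel)) fun h => sJ.ne_of ra sJ.one (by decide +kernel)
          (frR rn a ha (H68.conj_mem_of_mem_normalizer' h ha)), sup_bot_eq] at this
      exact this.le ⟨hg.1.2, (tab8 l hM ry rn).1 ⟨hg.1.1, hg.2⟩⟩) (by norm_num)).1
  exact (by decide +kernel : ∀ k ∈ Nat.divisors 864, 27 * 8 ∣ k → ¬ 2 ^ (3 + 1) ∣ k → k = 27 * 8) _
    (Nat.mem_divisors.2 ⟨d2, by decide⟩) d1 d3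

omit l hM

theorem card_u33 : Nat.card (grp RJ2 [ky, kn, ke3]) = 6048 ∧ IsCoatom (grp RJ2 [ky, kn, ke3]) := by
  haveI : Fact (Nat.Prime 2) := ⟨by norm_num⟩
  haveI : Fact (Nat.Prime 3) := ⟨by norm_num⟩
  haveI : Fact (Nat.Prime 7) := ⟨by norm_num⟩
  obtain ⟨w, hw, rw'⟩ := w7
  obtain ⟨a, -, ra⟩ := wR ka3 (by simp)
  refine maxJ (ne_top_orb (n := 1) (q := o33) (by decide) (by decide +kernel) (by decide +kernel)) fun M l n => ?_
  obtain ⟨c1, c2⟩ := tab7 l n rw' ra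
  have SM := (grp_le sJ wS).trans l
  exact arith (P := fun k => (¬ 2 ^ (5 + 1) ∣ k ∧ 32 ∣ k ∧ k / 32 % 2 = 1) ∧
    (¬ 7 ^ (1 + 1) ∣ k ∧ 7 * 3 ∣ k ∧ k / (7 * 3) % 7 = 1) ∧ ¬ 3 ^ (3 + 1) ∣ k ∧ 27 * 8 ∣ k ∧ k / (27 * 8) % 3 = 1)
    (by decide +kernel) n
    ⟨pin SM (enS.card sJ) (by rw [le_antisymm (normS l n) (le_inf SM le_normalizer), enS.card sJ]) (by norm_num),
      pin (zpowers_le.2 (l hw)) (card_zp (ordP_spec sJ rw' (L := [1, 1]) (by decide +kernel) (by decide +kernel)))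
        (by rw [c2, c1]) (by norm_num), pin ((grp_le sJ wR).trans l) (enR.card sJ) (normR l n) (by norm_num)⟩

theorem max_u33 : ∃ M : Subgroup J4, IsCoatom M ∧ ∃ (F : Type) (_ : Field F) (_ : Fintype F),
    Fintype.card F = 9 ∧ Nonempty (M ≃* PSU 3 F 3) := by
  haveI : Fact (Nat.Prime 2) := ⟨by norm_num⟩
  haveI : Fact (Nat.Prime 7) := ⟨by norm_num⟩
  obtain ⟨U, j⟩ := jJ
  obtain ⟨cM, co⟩ := card_u33
  obtain ⟨y, hy, ry⟩ := v33 ky (by simp)
  obtain ⟨n, hn, rn⟩ := v33 kn (by simp)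
  obtain ⟨e, he, re⟩ := v33 ke3 (by simp)
  obtain ⟨w, hw, rw'⟩ := w7
  obtain ⟨a, ha, ra⟩ := wR ka3 (by simp)
  obtain ⟨oy, y4⟩ := pow_ky ry
  obtain ⟨c1, c2⟩ := tab7 le_rfl co.1 rw' ra
  have ow : orderOf w = 7 := ordP_spec sJ rw' (L := [1, 1]) (by decide +kernel) (by decide +kernel)
  have on : orderOf n = 2 := ordP_spec sJ rn (L := [0]) (by decide +kernel) (by decide +kernel)
  have oe : orderOf e = 2 := ordP_spec sJ re (L := [0]) (by decide +kernel) (by decide +kernel)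
  haveI : IsSimpleGroup (grp RJ2 [ky, kn, ke3]) := simple_of (fun e => by rw [e, card_bot] at cM; omega) fun N hN nN => by
    have dN := card_dvd_of_le hN
    by_cases d : 7 ∣ Nat.card N
    · have := frat hN nN (by rw [cM]; norm_num) ow (mem_of_dvd hN nN (by rw [cM]; norm_num) d hw ow)
      obtain ⟨i, hi⟩ := dN
      rw [c2, c1, hi, mul_assoc, mul_comm (7 * 3), Nat.mul_dvd_mul_iff_left Nat.card_pos, mul_comm 7,
        Nat.mul_dvd_mul_iff_right (by decide)] at this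
      have k : ∀ {g : J4} {k : ℕ}, g ∈ grp RJ2 [ky, kn, ke3] → orderOf g = k → k.Coprime 3 → g ∈ N := fun h o c =>
        mem_of_card hN nN (hi.trans (mul_comm _ _)) h (o ▸ c.coprime_dvd_right this)
      exact Or.inr (le_antisymm hN (grp_le sJ (.cons ⟨y, k hy oy (by decide), ry⟩ (.cons ⟨n, k hn on (by decide), rn⟩
        (.cons ⟨e, k he oe (by decide), re⟩ (allIn_nil _))))))
    · refine Or.inl (card_eq_one.1 ((of_decide_eq_true (allJ (P := fun k => decide (k ∣ 6048 → ¬ 7 ∣ k → BS k 7 1 →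
        k = 1 ∨ k = 8)) (by decide +kernel) (dvd_J j N)) (cM ▸ dN) d (bs_one j.hc ow (nN hw) ?_ d)).resolve_right
        fun c8 => ?_))
      · rw [← cent_two (in_norm sJ ra rw' 2 (by decide +kernel)) (zp_inf_bot Nat.prime_three (ordP_spec sJ ra (L := [1])
          (by decide +kernel) (by decide +kernel)) (not_cent sJ ra rw' (by decide +kernel))), ← c2]
        exact le_inf inf_le_right (inf_le_inf hN (cent_le_norm w))
      obtain ⟨t, ht, t1⟩ := (bot_or_exists_ne_one _).resolve_left (inf_cent_ne_bot (p := 2)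
        (IsPGroup.of_card (n := 3) (card_zp oy)) (zpowers_le.2 (nN hy)) (c8 ▸ by decide))
      rw [cent_zp] at ht
      obtain ⟨i, hi, rfl⟩ := exists_pow_of_mem ((tab8 le_rfl co.1 ry rn).2 ⟨hN ht.1, ht.2⟩)
      obtain ⟨k, -, hk⟩ := (by decide : ∀ i, i < 8 → i ≠ 0 → ∃ k, k < 5 ∧ i * k % 8 = 4) i (oy ▸ hi)
        fun e => t1 (by rw [e, pow_zero])
      have zN : mdJ.z ∈ N := by
        rw [← y4, ← hk, ← oy, pow_mod_orderOf, pow_mul]
        exact pow_mem ht.1 k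
      have eN : e ∈ N := mul_inv_eq_iff_eq_mul.2 ((sJ.cj_iff ra rz re).1 (by decide +kernel)) ▸
        conj_mem_of_norm (nN ha) zN
      have := orderOf_dvd_card_of_mem (mul_mem eN zN)
      rw [c8, ordP_spec sJ (sJ.mul re rz) (L := [1]) (by decide +kernel) (by decide +kernel)] at this
      exact absurd this (by decide)
  obtain ⟨F, _, _, hF, e1⟩ := onan (p := 3) (d := 1) (e := 8) Nat.prime_three (by norm_num) (grp_le sJ wR) hy hn
    (norm_grp sJ ry (allIn_idx enR.mem [2, 11] (by decide)) (by decide +kernel))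
    ((sJ.isOne_iff (sJ.mul rn rn)).1 (by decide +kernel)) (in_norm sJ rn ry 5 (by decide +kernel)) (frR rn)
    (enR.card sJ) oy (by decide) (by norm_num) (by rw [cM]; norm_num)
  exact ⟨_, co, F, _, _, hF, e1⟩

end H74.J4N
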